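import Mathlib
import Cfsg.Prelude.Def_Blocks
import Cfsg.Agent.Characters.Core
import Cfsg.Agent.Characters.Clifford
import Cfsg.Agent.Characters.GaloisIrr
import Cfsg.Agent.CharactersDeep.CliffordSum
import Cfsg.Agent.Blocks.Local
import Cfsg.Agent.Blocks.ExistsModular
import Cfsg.Agent.H686.CharKit
import Cfsg.Agent.H610.Twist
import Cfsg.Agent.H611.EvenFixed

/-!
# Power maps of order two and the parity criterion relative to a normal subgroup

* `KM G k`: `g ↦ g ^ k` is an involutive map which inverts the elements of odd order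
  (complex conjugation, or the Galois automorphism fixing the 2-power roots of unity and inverting
  those of odd order).
* `crit`: a `k`-invariant real class function `Ψ` with coefficients in the local ring at 2 and
  `[Ψ_N, Ψ_N] - Ψ(1)²` a unit has a `k`-fixed irreducible constituent of even degree which is not
  trivial on `N`.
-/

set_option autoImplicit false

namespace Cfsg.Agent.H612.Base

open Cfsg Cfsg.Agent.Characters Cfsg.Agent.Blocks Cfsg.Agent.H686.CharKit
open Cfsg.Agent.H610.Twist
open scoped ComplexConjugate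

/-- `g ↦ g ^ k` is involutive and inverts the elements of odd order. -/
structure KM (G : Type*) [Group G] (k : ℕ) : Prop where
  sq : ∀ g : G, (g ^ k) ^ k = g
  odd : ∀ g : G, Odd (orderOf g) → g ^ k = g⁻¹

variable {G : Type*} [Group G] {k : ℕ}

theorem KM.coprime [Finite G] (h : KM G k) : Nat.Coprime k (Nat.card G) := by
  by_contra hcon
  obtain ⟨p, hp, hpk, hpG⟩ := Nat.Prime.not_coprime_iff_dvd.1 hcon
  have := Fact.mk hp
  obtain ⟨g, hg⟩ := exists_prime_orderOf_dvd_card' p hpG
  have h1 : g ^ k = 1 := orderOf_dvd_iff_pow_eq_one.1 (hg ▸ hpk)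
  have h2 := h.sq g
  rw [h1, one_pow] at h2
  rw [← h2, orderOf_one] at hg
  exact hp.one_lt.ne hg

theorem KM.sub (h : KM G k) (H : Subgroup G) : KM H k where
  sq g := by
    apply Subtype.ext
    rw [Subgroup.coe_pow, Subgroup.coe_pow]
    exact h.sq g
  odd g hg := by
    apply Subtype.ext
    rw [Subgroup.coe_pow, Subgroup.coe_inv]
    exact h.odd g (by rwa [Subgroup.orderOf_coe])

theorem KM.map_of_surjective [Finite G] {H : Type*} [Group H] (h : KM G k) (f : G →* H)
    (hf : Function.Surjective f) : KM H k where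
  sq x := by
    obtain ⟨g, rfl⟩ := hf x
    rw [← map_pow, ← map_pow, h.sq]
  odd x hx := by
    obtain ⟨g, rfl⟩ := hf x
    obtain ⟨a, m, hm, hgm⟩ := Nat.exists_eq_two_pow_mul_odd (orderOf_pos g).ne'
    have h1 : orderOf (f g) ∣ m := by
      have h2 : orderOf (f g) ∣ 2 ^ a * m := by
        rw [← hgm]
        exact orderOf_map_dvd f g
      exact (Nat.Coprime.pow_right a (Nat.coprime_two_right.2 hx)).dvd_of_dvd_mul_left h2
    obtain ⟨e, he0, he1⟩ := Nat.chineseRemainder
      (Nat.Coprime.pow_left a (Nat.coprime_two_left.2 hm)) 0 1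
    have h3 : Odd (orderOf (g ^ e)) := by
      refine Odd.of_dvd_nat hm ?_
      apply orderOf_dvd_of_pow_eq_one
      rw [← pow_mul, ← orderOf_dvd_iff_pow_eq_one, hgm]
      exact mul_dvd_mul ((Nat.modEq_zero_iff_dvd).1 he0) dvd_rfl
    have h4 : f (g ^ e) = f g := by
      rw [map_pow]
      nth_rewrite 2 [← pow_one (f g)]
      rw [pow_eq_pow_iff_modEq]
      exact he1.of_dvd h1
    rw [← h4, ← map_pow, ← map_inv, h.odd _ h3]

/-- an irreducible character fixed by the power map -/
def Fx (k : ℕ) (χ : G → ℂ) : Prop := ∀ g : G, χ (g ^ k) = χ g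

theorem fx_def {χ : G → ℂ} : Fx k χ ↔ ∀ g : G, χ (g ^ k) = χ g := Iff.rfl

theorem pw_pw [Finite G] (h : KM G k) (χ : IrrCharacter G) : pw h.coprime (pw h.coprime χ) = χ := by
  apply Subtype.ext
  funext g
  rw [pw_apply, pw_apply, h.sq]

theorem pw_eq_iff [Finite G] (h : KM G k) (χ : IrrCharacter G) :
    pw h.coprime χ = χ ↔ Fx k (χ : G → ℂ) := fixed_iff h.coprime χ

/-- The bijection `g ↦ g ^ k`. -/
def powEquiv [Finite G] (h : KM G k) : G ≃ G where
  toFun g := g ^ k
  invFun g := g ^ k
  left_inv := h.sq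
  right_inv := h.sq

theorem classInner_pw [Fintype G] (h : KM G k) {f : G → ℂ} (hf : Fx k f)
    (χ : IrrCharacter G) :
    classInner f (pw h.coprime χ : G → ℂ) = classInner f (χ : G → ℂ) := by
  rw [Core.classInner_def, Core.classInner_def]
  congr 1
  refine Fintype.sum_equiv (powEquiv h) _ _ fun g => ?_
  show _ = f (g ^ k) * conj ((χ : G → ℂ) (g ^ k))
  rw [pw_apply, hf g]

/-- real-valued functions invariant under inversion have real coefficients -/
theorem conj_classInner [Fintype G] {f : G → ℂ} (hinv : ∀ g, f g⁻¹ = f g)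
    (hreal : ∀ g, conj (f g) = f g) (χ : IrrCharacter G) :
    conj (classInner f (χ : G → ℂ)) = classInner f (χ : G → ℂ) := by
  rw [Core.classInner_def, map_mul, map_inv₀, map_natCast, map_sum]
  congr 1
  refine Fintype.sum_equiv (Equiv.inv G) _ _ fun g => ?_
  rw [Equiv.inv_apply, hinv, map_mul, hreal, Complex.conj_conj,
    Core.isCharacter_apply_inv (Core.isIrr_isCharacter χ.2), Complex.conj_conj]

/-- The multiplicity parity: for an irreducible `χ` of odd degree the norm of the restriction to a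
normal subgroup is odd; if `χ` is trivial on `N` it is `χ(1)²`. -/
theorem norm_restrict_odd [Fintype G] (N : Subgroup G) [N.Normal] [Fintype N] (χ : IrrCharacter G)
    {m : ℕ} (hm : classInner (fun n : N => (χ : G → ℂ) n) (fun n : N => (χ : G → ℂ) n) = m)
    (hodd : Odd (charDegree (χ : G → ℂ))) : Odd m := by
  classical
  have hc : IsCharacter N (fun n : N => (χ : G → ℂ) n) :=
    Clifford.isCharacter_restrict N (Core.isIrr_isCharacter χ.2)
  have hirr := Core.finite_irr (G := N)
  have := Fintype.ofFinite (IrrCharacter N)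
  -- a constituent
  obtain ⟨φ, hφ⟩ : ∃ φ : IrrCharacter N, classInner (fun n : N => (χ : G → ℂ) n) (φ : N → ℂ) ≠ 0 := by
    by_contra hcon
    push Not at hcon
    have h1 := Core.classFunction_eq_sum (Core.isCharacter_isClassFunction hc)
    rw [Finset.sum_congr rfl fun φ _ => by rw [hcon φ, zero_smul], Finset.sum_const_zero] at h1
    have h2 := congrFun h1 1
    simp only [Pi.zero_apply] at h2
    exact Core.isIrr_apply_one_ne_zero χ.2 h2
  obtain ⟨e, he⟩ := Core.classInner_isNat hc (Core.isIrr_isCharacter φ.2)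
  have he0 : e ≠ 0 := by
    rintro rfl
    exact hφ (by rw [he, Nat.cast_zero])
  have h1 := CharactersDeep.CliffordSum.classInner_restrict_self_eq N χ.2 φ.2 he he0
  rw [hm] at h1
  have h2 := CharactersDeep.CliffordSum.restrict_eq_smul_sum N χ.2 φ.2 hφ
  set t := (Finset.univ.image (fun x : G => (φ : N → ℂ) ∘ (MulAut.conjNormal x : MulAut N))) with ht
  have h3 : (charDegree (χ : G → ℂ) : ℂ) = e * (t.card * charDegree (φ : N → ℂ)) := by
    have h4 := congrFun h2 1
    simp only [Pi.smul_apply, smul_eq_mul, Finset.sum_apply] at h4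
    rw [he] at h4
    rw [charDegree_irr]
    have h5 : ∀ ψ ∈ t, ψ 1 = charDegree (φ : N → ℂ) := by
      intro ψ hψ
      obtain ⟨x, -, rfl⟩ := Finset.mem_image.1 hψ
      rw [charDegree_irr, Function.comp_apply, map_one]
    rw [Finset.sum_congr rfl h5, Finset.sum_const, nsmul_eq_mul] at h4
    exact h4
  have h4 : charDegree (χ : G → ℂ) = e * (t.card * charDegree (φ : N → ℂ)) := by exact_mod_cast h3
  have h5 : m = e ^ 2 * t.card := by exact_mod_cast h1
  rw [h4] at hodd
  rw [h5]
  have h6 := Nat.odd_mul.1 hodd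
  exact (h6.1.pow).mul (Nat.odd_mul.1 h6.2).1

/-- **The parity criterion relative to a normal subgroup.** -/
theorem crit [Fintype G] (h : KM G k) (N : Subgroup G) [N.Normal] [Fintype N]
    {M : Ideal AlgInt} (hM : IsPModular 2 M) {Ψ : G → ℂ} (hΨ : IsClassFunction G Ψ)
    (hinv : ∀ g, Ψ g⁻¹ = Ψ g) (hreal : ∀ g, conj (Ψ g) = Ψ g) (hk : Fx k Ψ)
    (hloc : ∀ χ : IrrCharacter G, MemLocalRing M (classInner Ψ (χ : G → ℂ)))
    (hne : ¬ MemLocalIdeal M
      (classInner (fun n : N => Ψ n) (fun n : N => Ψ n) - Ψ 1 ^ 2)) :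
    ∃ χ : IrrCharacter G, Fx k (χ : G → ℂ) ∧ Even (charDegree (χ : G → ℂ)) ∧
      (∃ n ∈ N, (χ : G → ℂ) n ≠ (χ : G → ℂ) 1) ∧ ¬ MemLocalIdeal M (classInner Ψ (χ : G → ℂ)) := by
  classical
  have hprime : M.IsPrime := Local.isPrime_of_isPModular hM
  have hchar : CharP (Local.ResField M) 2 := Local.charP_resField hM
  have hirr := Core.finite_irr (G := G)
  have := Fintype.ofFinite (IrrCharacter G)
  have hc : ∀ χ : IrrCharacter G, IsCharacter N (fun n : N => (χ : G → ℂ) n) := fun χ =>
    Clifford.isCharacter_restrict N (Core.isIrr_isCharacter χ.2)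
  choose m hm using fun χ χ' : IrrCharacter G => Core.classInner_isNat (hc χ) (hc χ')
  set b : IrrCharacter G → ℂ := fun χ => classInner Ψ (χ : G → ℂ) with hb
  have hbreal : ∀ χ, conj (b χ) = b χ := fun χ => conj_classInner hinv hreal χ
  have hbk : ∀ χ, b (pw h.coprime χ) = b χ := fun χ => classInner_pw h hk χ
  have hsum : Ψ = ∑ χ : IrrCharacter G, b χ • (χ : G → ℂ) := Core.classFunction_eq_sum hΨ
  -- the restriction
  have hres : (fun n : N => Ψ n) = ∑ χ : IrrCharacter G, b χ • (fun n : N => (χ : G → ℂ) n) := by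
    funext n
    have h1 := congrFun hsum (n : G)
    simp only [Finset.sum_apply, Pi.smul_apply] at h1 ⊢
    exact h1
  have hnorm : classInner (fun n : N => Ψ n) (fun n : N => Ψ n) =
      ∑ x : IrrCharacter G × IrrCharacter G, b x.1 * b x.2 * (m x.1 x.2 : ℂ) := by
    rw [hres, Core.classInner_sum_left, Fintype.sum_prod_type]
    refine Finset.sum_congr rfl fun χ _ => ?_
    rw [Core.classInner_sum_right]
    refine Finset.sum_congr rfl fun χ' _ => ?_
    rw [Core.classInner_smul_left, Core.classInner_smul_right, hbreal, hm]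
    ring
  have hone : Ψ 1 = ∑ χ : IrrCharacter G, b χ * (charDegree (χ : G → ℂ) : ℂ) := by
    have h1 := congrFun hsum 1
    simp only [Finset.sum_apply, Pi.smul_apply, smul_eq_mul] at h1
    rw [h1]
    exact Finset.sum_congr rfl fun χ _ => by rw [charDegree_irr]
  -- symmetry and invariance of the multiplicities
  have hsymm : ∀ χ χ', m χ χ' = m χ' χ := by
    intro χ χ'
    have h1 := Core.classInner_conj_symm (fun n : N => (χ : G → ℂ) n) (fun n : N => (χ' : G → ℂ) n)
    rw [hm, hm, Complex.conj_natCast] at h1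
    exact_mod_cast h1
  have hmk : ∀ χ χ', m (pw h.coprime χ) (pw h.coprime χ') = m χ χ' := by
    intro χ χ'
    have h1 := classInner_pow (coprime_subgroup h.coprime N) (fun n : N => (χ : G → ℂ) n)
      (fun n : N => (χ' : G → ℂ) n)
    have h2 : ∀ ψ : IrrCharacter G, (fun g : N => (fun n : N => (ψ : G → ℂ) n) (g ^ k)) =
        (fun n : N => (pw h.coprime ψ : G → ℂ) n) := by
      intro ψ
      funext n
      rw [pw_apply]
      simp
    rw [h2, h2, hm, hm] at h1
    exact_mod_cast h1
  -- reduction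
  set β : IrrCharacter G → Local.ResField M := fun χ => Local.redC M (b χ) with hβ
  have hR : ∀ x : IrrCharacter G × IrrCharacter G,
      MemLocalRing M (b x.1 * b x.2 * (m x.1 x.2 : ℂ)) := fun x =>
    Local.memLocalRing_mul (Local.memLocalRing_mul (hloc _) (hloc _)) (Local.memLocalRing_natCast _)
  have hR1 : ∀ χ : IrrCharacter G, MemLocalRing M (b χ * (charDegree (χ : G → ℂ) : ℂ)) := fun χ =>
    Local.memLocalRing_mul (hloc _) (Local.memLocalRing_natCast _)
  have hRs : MemLocalRing M (∑ χ : IrrCharacter G, b χ * (charDegree (χ : G → ℂ) : ℂ)) :=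
    Local.memLocalRing_sum fun χ _ => hR1 χ
  have hn : Local.redC M (classInner (fun n : N => Ψ n) (fun n : N => Ψ n)) =
      ∑ χ ∈ Finset.univ.filter (fun χ : IrrCharacter G => pw h.coprime χ = χ),
        β χ ^ 2 * (m χ χ : Local.ResField M) := by
    rw [hnorm, Local.redC_sum fun x _ => hR x]
    have h1 : ∀ x : IrrCharacter G × IrrCharacter G,
        Local.redC M (b x.1 * b x.2 * (m x.1 x.2 : ℂ)) = β x.1 * β x.2 * (m x.1 x.2) := by
      intro x
      rw [Local.redC_mul (Local.memLocalRing_mul (hloc _) (hloc _)) (Local.memLocalRing_natCast _),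
        Local.redC_mul (hloc _) (hloc _), Local.redC_natCast]
    rw [Finset.sum_congr rfl fun x _ => h1 x]
    rw [H611.EvenFixed.sum_eq_sum_fixed Finset.univ Prod.swap (fun x _ => Prod.swap_swap x)
      (fun x _ => Finset.mem_univ _) _ (fun x _ => by
        simp only [Prod.fst_swap, Prod.snd_swap]
        rw [hsymm x.2 x.1]
        ring)]
    have h2 : ∑ x ∈ Finset.univ.filter (fun x : IrrCharacter G × IrrCharacter G => x.swap = x),
        β x.1 * β x.2 * (m x.1 x.2 : Local.ResField M) =
        ∑ χ : IrrCharacter G, β χ ^ 2 * (m χ χ : Local.ResField M) := by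
      symm
      refine Finset.sum_bij (fun χ _ => (χ, χ)) ?_ ?_ ?_ ?_
      · intro χ _
        rw [Finset.mem_filter]
        exact ⟨Finset.mem_univ _, rfl⟩
      · intro χ _ χ' _ hh
        exact (Prod.ext_iff.1 hh).1
      · rintro ⟨χ, χ'⟩ hx
        rw [Finset.mem_filter] at hx
        have := (Prod.ext_iff.1 hx.2).1
        simp only [Prod.fst_swap] at this
        exact ⟨χ, Finset.mem_univ _, by rw [this]⟩
      · intro χ _
        simp only [pow_two]
    rw [h2]
    exact H611.EvenFixed.sum_eq_sum_fixed Finset.univ (pw h.coprime) (fun χ _ => pw_pw h χ)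
      (fun χ _ => Finset.mem_univ _) _ (fun χ _ => by
        simp only [hβ, hbk, hmk])
  have ho : Local.redC M (Ψ 1 ^ 2) =
      ∑ χ ∈ Finset.univ.filter (fun χ : IrrCharacter G => pw h.coprime χ = χ),
        β χ ^ 2 * (charDegree (χ : G → ℂ) : Local.ResField M) ^ 2 := by
    rw [hone, Local.redC_pow hRs, Local.redC_sum fun χ _ => hR1 χ]
    have h1 : ∀ χ : IrrCharacter G, Local.redC M (b χ * (charDegree (χ : G → ℂ) : ℂ)) =
        β χ * (charDegree (χ : G → ℂ)) := by
      intro χ
      rw [Local.redC_mul (hloc _) (Local.memLocalRing_natCast _), Local.redC_natCast]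
    rw [Finset.sum_congr rfl fun χ _ => h1 χ]
    rw [H611.EvenFixed.sum_eq_sum_fixed Finset.univ (pw h.coprime) (fun χ _ => pw_pw h χ)
      (fun χ _ => Finset.mem_univ _) _ (fun χ _ => by
        have h2 : (charDegree (pw h.coprime χ : G → ℂ)) = charDegree (χ : G → ℂ) := by
          have h3 : ((charDegree (pw h.coprime χ : G → ℂ) : ℕ) : ℂ) = charDegree (χ : G → ℂ) := by
            rw [charDegree_irr, charDegree_irr, pw_apply, one_pow]
          exact_mod_cast h3
        simp only [hβ, hbk, h2])]
    rw [sum_pow_char 2]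
    exact Finset.sum_congr rfl fun χ _ => mul_pow _ _ _
  -- a good character
  have hR2 : MemLocalRing M (classInner (fun n : N => Ψ n) (fun n : N => Ψ n)) := by
    rw [hnorm]
    exact Local.memLocalRing_sum fun x _ => hR x
  have hne' : Local.redC M (classInner (fun n : N => Ψ n) (fun n : N => Ψ n)) ≠
      Local.redC M (Ψ 1 ^ 2) := by
    intro hh
    rw [Local.redC_eq_iff hR2 (by rw [hone]; exact Local.memLocalRing_pow hRs 2)] at hh
    exact hne hh
  rw [hn, ho] at hne'
  obtain ⟨χ, hχ, hne2⟩ : ∃ χ ∈ Finset.univ.filter (fun χ : IrrCharacter G => pw h.coprime χ = χ),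
      β χ ^ 2 * (m χ χ : Local.ResField M) ≠
        β χ ^ 2 * (charDegree (χ : G → ℂ) : Local.ResField M) ^ 2 := by
    by_contra hcon
    push Not at hcon
    exact hne' (Finset.sum_congr rfl hcon)
  rw [Finset.mem_filter] at hχ
  have hβ0 : β χ ≠ 0 := by
    intro h0
    apply hne2
    rw [h0]
    ring
  have hmd : (m χ χ : Local.ResField M) ≠ (charDegree (χ : G → ℂ) : Local.ResField M) ^ 2 :=
    fun h0 => hne2 (by rw [h0])
  have hoddK : ∀ n : ℕ, Odd n → (n : Local.ResField M) = 1 := by
    rintro n ⟨j, rfl⟩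
    push_cast
    rw [CharTwo.two_eq_zero, zero_mul, zero_add]
  refine ⟨χ, (pw_eq_iff h χ).1 hχ.2, ?_, ?_, ?_⟩
  · rw [← Nat.not_odd_iff_even]
    intro hodd
    apply hmd
    rw [hoddK _ (norm_restrict_odd N χ (hm χ χ) hodd), hoddK _ hodd, one_pow]
  · by_contra hcon
    push Not at hcon
    apply hmd
    have h1 : (fun n : N => (χ : G → ℂ) n) = (charDegree (χ : G → ℂ) : ℂ) • (1 : N → ℂ) := by
      funext n
      rw [hcon n n.2, ← charDegree_irr]
      simp
    have h2 := hm χ χ
    rw [h1, Core.classInner_smul_left, Core.classInner_smul_right, Complex.conj_natCast,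
      Core.classInner_irr_self Core.isIrr_one, mul_one] at h2
    have h3 : m χ χ = charDegree (χ : G → ℂ) * charDegree (χ : G → ℂ) := by exact_mod_cast h2.symm
    rw [h3]
    push_cast
    ring
  · intro h0
    exact hβ0 ((Local.redC_eq_zero_iff (hloc χ)).2 h0)

end Cfsg.Agent.H612.Base
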