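import Cfsg.Agent.H612.SelfNorm
import Cfsg.Agent.FixBN.Split
import Cfsg.Agent.S0308
import Cfsg.Agent.S0309

/-!
# Simple groups of Lie type of characteristic two

`of_hasSplit`: `HasSplit 2 S → EvenOver S`, by criterion (D) for the Borel subgroup: its index is
odd and the number of double cosets is `|W|`, which is even.
-/

set_option autoImplicit false

namespace Cfsg.Agent.H612.CharTwo

open Cfsg Cfsg.Agent.H612.Even Cfsg.Agent.H612.MinNormal Cfsg.Agent.H612.SelfNorm

universe u

/-- The double cosets of `B` are indexed by the Weyl group. -/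
theorem card_doubleCoset {S : Type u} [Group S] (P : Cfsg.BNPair S) :
    Nat.card (DoubleCoset.Quotient (P.B : Set S) (P.B : Set S)) = (P.B.subgroupOf P.N).index := by
  classical
  have key : ∀ a b : S, a ∈ P.N → b ∈ P.N →
      (DoubleCoset.setoid (P.B : Set S) (P.B : Set S) a b ↔ a⁻¹ * b ∈ P.B) := by
    intro a b ha hb
    rw [← Cfsg.Agent.S0309.result P ha hb, DoubleCoset.rel_iff]
    constructor
    · rintro ⟨x, hx, y, hy, h⟩
      apply Eq.symm
      apply DoubleCoset.doubleCoset_eq_of_mem
      rw [DoubleCoset.mem_doubleCoset]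
      exact ⟨x, hx, y, hy, h⟩
    · intro h
      have h1 : b ∈ DoubleCoset.doubleCoset a (P.B : Set S) P.B := by
        rw [h]
        exact DoubleCoset.mem_doubleCoset_self P.B P.B b
      rw [DoubleCoset.mem_doubleCoset] at h1
      exact h1
  refine Nat.card_congr (Equiv.symm (Equiv.ofBijective
    (Quotient.lift (s := QuotientGroup.leftRel (P.B.subgroupOf P.N))
      (fun n : P.N => (Quotient.mk (DoubleCoset.setoid (P.B : Set S) (P.B : Set S)) (n : S) :
        DoubleCoset.Quotient (P.B : Set S) (P.B : Set S))) ?_) ?_))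
  · intro a b hab
    have h1 := QuotientGroup.leftRel_apply.1 hab
    rw [Subgroup.mem_subgroupOf] at h1
    exact Quotient.sound ((key a b a.2 b.2).2 h1)
  · constructor
    · intro x y hxy
      induction x using Quotient.inductionOn with
      | _ x =>
      induction y using Quotient.inductionOn with
      | _ y =>
      apply Quotient.sound
      apply QuotientGroup.leftRel_apply.2
      rw [Subgroup.mem_subgroupOf]
      exact (key x y x.2 y.2).1 (Quotient.exact hxy)
    · intro z
      induction z using Quotient.inductionOn with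
      | _ g =>
      obtain ⟨n, hn, hg⟩ := Cfsg.Agent.S0308.result P g
      refine ⟨Quotient.mk _ ⟨n, hn⟩, ?_⟩
      apply Quotient.sound
      rw [DoubleCoset.mem_doubleCoset] at hg
      exact (DoubleCoset.rel_iff).2 hg

/-- The Weyl group has even order. -/
theorem even_index {S : Type u} [Group S] [Finite S] (P : Cfsg.BNPair S) (h : P.S.Nonempty) :
    Even (P.B.subgroupOf P.N).index := by
  obtain ⟨s, hs⟩ := h
  have hT : (P.B.subgroupOf P.N).Normal := by
    constructor
    intro t ht n
    rw [Subgroup.mem_subgroupOf] at ht ⊢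
    exact P.conj_mem n n.2 t ⟨ht, t.2⟩
  have hsN : s ∈ P.N := P.subset hs
  have hsB : s ∉ P.B := by
    intro h1
    apply P.conj_ne s hs
    ext x
    constructor
    · rintro ⟨b, hb, rfl⟩
      exact P.B.mul_mem (P.B.mul_mem h1 hb) h1
    · intro hx
      refine ⟨s⁻¹ * x * s⁻¹, P.B.mul_mem (P.B.mul_mem (P.B.inv_mem h1) hx) (P.B.inv_mem h1), ?_⟩
      simp [mul_assoc]
  have h1 : orderOf ((⟨s, hsN⟩ : P.N) : P.N ⧸ P.B.subgroupOf P.N) = 2 := by
    apply orderOf_eq_prime
    · rw [← QuotientGroup.mk_pow, QuotientGroup.eq_one_iff, Subgroup.mem_subgroupOf, pow_two]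
      exact P.sq_mem s hs
    · rw [Ne, QuotientGroup.eq_one_iff, Subgroup.mem_subgroupOf]
      exact hsB
  rw [even_iff_two_dvd, ← h1]
  exact orderOf_dvd_natCard _

/-- `U` is a Sylow `p`-subgroup. -/
theorem exists_sylow {S : Type u} [Group S] [Finite S] {p : ℕ} [Fact p.Prime] {P : Cfsg.BNPair S}
    {U : Subgroup S} (h : FixBN.Split P p U) : ∃ Q : Sylow p S, (Q : Subgroup S) = U := by
  obtain ⟨Q, hQ⟩ := h.isP.exists_le_sylow
  refine ⟨Q, ?_⟩
  by_contra hne
  have hlt : U < (Q : Subgroup S) := lt_of_le_of_ne hQ (Ne.symm hne)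
  have : Group.IsNilpotent Q := Q.2.isNilpotent
  have h1 : U.subgroupOf Q < ⊤ := by
    rw [lt_top_iff_ne_top, Ne, Subgroup.subgroupOf_eq_top]
    exact not_le_of_gt hlt
  have h2 := Group.normalizerCondition_of_isNilpotent (G := Q) (U.subgroupOf Q) h1
  obtain ⟨x, hx, hxU⟩ := SetLike.exists_of_lt h2
  apply hxU
  rw [Subgroup.mem_subgroupOf]
  have h3 : (x : S) ∈ Subgroup.normalizer (U : Set S) := by
    rw [Subgroup.mem_normalizer_iff] at hx ⊢
    intro y
    constructor
    · intro hy
      have := (hx ⟨y, hQ hy⟩).1 hy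
      exact this
    · intro hy
      have hyQ : y ∈ (Q : Subgroup S) := by
        have h4 := (Q : Subgroup S).mul_mem ((Q : Subgroup S).mul_mem
          ((Q : Subgroup S).inv_mem x.2) (hQ hy)) x.2
        have h5 : (x : S)⁻¹ * ((x : S) * y * (x : S)⁻¹) * x = y := by group
        rwa [h5] at h4
      exact (hx ⟨y, hyQ⟩).2 hy
  rw [h.normalizer_eq] at h3
  obtain ⟨n, hn⟩ := Q.2 x
  exact h.mem_of_pow h3 (n := n) (by
    have := congrArg Subtype.val hn
    simpa using this)

theorem of_hasSplit (S : Type u) [Group S] [Finite S] (h : FixBN.HasSplit 2 S) : EvenOver S := by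
  have hp2 : Fact (Nat.Prime 2) := ⟨Nat.prime_two⟩
  obtain ⟨P, U, hne, hs⟩ := h
  obtain ⟨Q, hQ⟩ := exists_sylow hs
  have hNU := hs.normalizer_eq
  have hself : Subgroup.normalizer (P.B : Set S) = P.B := by
    apply le_antisymm _ Subgroup.le_normalizer
    intro x hx
    -- `U ^ x` is a Sylow subgroup in `B`
    rw [← hNU, mem_normalizer_iff_cj]
    have h1 : cj x U ≤ P.B := by
      rw [← mem_normalizer_iff_cj.1 hx]
      exact cj_mono hs.le
    have h2 : cj x U ≤ U := by
      intro y hy
      obtain ⟨n, hn⟩ := hs.isP ⟨_, mem_cj.1 hy⟩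
      refine hs.mem_of_pow (h1 hy) (n := n) ?_
      have h3 := congrArg Subtype.val hn
      have h4 : (x⁻¹ * y * x) ^ 2 ^ n = 1 := by simpa using h3
      have h5 : y = x * (x⁻¹ * y * x) * x⁻¹ := by group
      rw [h5, conj_pow, h4]
      simp
    exact Subgroup.eq_of_le_of_card_ge h2 (by rw [card_cj])
  refine of_selfNorm S P.B hself ?_ ?_
  · intro α
    obtain ⟨g, hg⟩ := MulAction.exists_smul_eq S Q (Q.mapSurjective (f := α.toMonoidHom) α.surjective)
    refine ⟨g, ?_⟩
    have h1 : U.map α.toMonoidHom = cj g U := by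
      have h2 : ((g • Q : Sylow 2 S) : Subgroup S) = (Q : Subgroup S).map α.toMonoidHom := by
        rw [hg]
        exact Sylow.coe_mapSurjective _ _
      rw [← hQ, ← h2]
      rfl
    rw [← hNU]
    ext x
    constructor
    · rintro ⟨y, hy, rfl⟩
      rw [SetLike.mem_coe, mem_normalizer_iff_cj] at hy
      rw [mem_cj, mem_normalizer_iff_cj]
      show cj (g⁻¹ * α y * g) U = U
      rw [cj_mul, ← h1, cj_mul]
      have h3 : cj (α y) (U.map α.toMonoidHom) = U.map α.toMonoidHom := by
        nth_rewrite 2 [← hy]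
        ext z
        constructor
        · intro hz
          rw [mem_cj] at hz
          obtain ⟨w, hw, hwz⟩ := hz
          refine ⟨y * w * y⁻¹, ?_, ?_⟩
          · rw [SetLike.mem_coe, mem_cj]
            have : y⁻¹ * (y * w * y⁻¹) * y = w := by group
            rw [this]
            exact hw
          · have h4 : α w = (α y)⁻¹ * z * α y := hwz
            show α (y * w * y⁻¹) = z
            rw [map_mul, map_mul, map_inv, h4]
            group
        · rintro ⟨w, hw, rfl⟩
          rw [SetLike.mem_coe, mem_cj] at hw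
          rw [mem_cj]
          exact ⟨_, hw, by simp⟩
      rw [h3, h1, ← cj_mul, inv_mul_cancel, cj_one]
    · intro hx
      rw [mem_cj, mem_normalizer_iff_cj] at hx
      obtain ⟨y, rfl⟩ := α.surjective x
      refine ⟨y, ?_, rfl⟩
      rw [SetLike.mem_coe, mem_normalizer_iff_cj]
      have h3 : cj (α y) (U.map α.toMonoidHom) = U.map α.toMonoidHom := by
        rw [h1]
        have h4 : cj g (cj (g⁻¹ * α y * g) U) = cj g U := by rw [hx]
        rw [← cj_mul] at h4
        have h5 : g * (g⁻¹ * α y * g) = α y * g := by group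
        rw [h5, cj_mul] at h4
        exact h4
      ext z
      rw [mem_cj]
      have h4 : ∀ w : S, w ∈ U ↔ α w ∈ U.map α.toMonoidHom := by
        intro w
        constructor
        · intro hw
          exact ⟨w, hw, rfl⟩
        · rintro ⟨v, hv, hvw⟩
          have : v = w := α.injective hvw
          rwa [this] at hv
      rw [h4, h4 z]
      nth_rewrite 2 [← h3]
      rw [mem_cj, map_mul, map_mul, map_inv]
  · rw [card_doubleCoset]
    refine Odd.add_even ?_ (even_index P hne)
    have h1 : P.B.index ∣ (Q : Subgroup S).index := Subgroup.index_dvd_of_le (by rw [hQ]; exact hs.le)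
    have h2 : ¬ 2 ∣ (Q : Subgroup S).index := Q.not_dvd_index
    rw [← Nat.not_even_iff_odd, even_iff_two_dvd]
    exact fun h3 => h2 (h3.trans h1)

end Cfsg.Agent.H612.CharTwo
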