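import Cfsg.Agent.H612.SectionR
import Cfsg.Agent.S0157
import Cfsg.Agent.H611.RealSection

/-!
# Simple groups with fixed characters of even degree over them

`EvenOver S`: in every finite group `A` with a normal subgroup `N ≅ S` of 2-power index, and for
every power map `g ↦ g ^ k` as in `KM`, there is a fixed irreducible character of even degree which
is not trivial on `N`. Criteria for `EvenOver S`:

* `of_set`, `of_twoClosed` (real `y ≠ 1` of odd order with 2-closed centralizer),
  `of_nilpotent` (real `r`-element, `r` odd, with `r`-nilpotent centralizer);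
* `crit_set`: a `G`-set `X` with `|X| + #(N-orbits on X × X)` odd;
* `of_subgroups`: a characteristic set of subgroups with `|𝒳| + #(S-orbits on 𝒳 × 𝒳)` odd.
-/

set_option autoImplicit false

namespace Cfsg.Agent.H612.Even

open Cfsg Cfsg.Agent.Characters Cfsg.Agent.Blocks Cfsg.Agent.H686.CharKit
open Cfsg.Agent.H612.Base Cfsg.Agent.H612.SectionR
open scoped ComplexConjugate

universe u

/-- Fixed characters of even degree exist over `S` in all extensions by 2-groups. -/
def EvenOver (S : Type u) [Group S] : Prop :=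
  ∀ (A : Type u) [Group A] [Finite A] (N : Subgroup A) [N.Normal], Nonempty (S ≃* N) →
    IsPGroup 2 (A ⧸ N) → ∀ k : ℕ, KM A k → ∃ χ : IrrCharacter A, Fx k (χ : A → ℂ) ∧
      Even (charDegree (χ : A → ℂ)) ∧ ∃ n ∈ N, (χ : A → ℂ) n ≠ (χ : A → ℂ) 1

theorem EvenOver.congr {S S' : Type u} [Group S] [Group S'] (e : S ≃* S') (h : EvenOver S) :
    EvenOver S' := fun A _ _ N _ f h2 k hk => h A N (f.map fun f => e.trans f) h2 k hk

/-- Theorem R in the form of a property of `S`. -/
theorem of_set (S : Type u) [Group S] [Finite S] {e : ℕ} (he : OE S e) (X : Set S)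
    (hXo : ∀ x ∈ X, Odd (orderOf x)) (hX1 : (1 : S) ∉ X) (hXi : ∀ x ∈ X, x⁻¹ ∈ X)
    (hXn : ∀ g : S, ∀ x ∈ X, g * x * g⁻¹ ∈ X)
    (hXa : ∀ α : S ≃* S, (∃ x ∈ X, α x ∈ X) → ∀ x ∈ X, α x ∈ X)
    {a s c : ℕ} (hs : Nat.card {g : S // g ^ e ∈ X} = 2 ^ a * s) (hc : Nat.card S = 2 ^ a * c)
    (hs2 : ¬ 2 ∣ s) : EvenOver S := by
  intro A _ _ N hN f h2 k hk
  classical
  obtain ⟨f⟩ := f
  have := Fintype.ofFinite A
  have := Fintype.ofFinite N
  obtain ⟨e', he'⟩ := exists_OE (G := A)
  set X' : Set A := {x | ∃ s ∈ X, (f s : A) = x} with hX'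
  have hmem : ∀ n : N, (n : A) ∈ X' ↔ f.symm n ∈ X := by
    intro n
    constructor
    · rintro ⟨s, hs, hsn⟩
      have : f s = n := Subtype.ext hsn
      rw [← this, MulEquiv.symm_apply_apply]
      exact hs
    · intro h
      exact ⟨f.symm n, h, by rw [MulEquiv.apply_symm_apply]⟩
  have hee : ∀ n : N, (n : A) ^ e' = ((n ^ e : N) : A) := by
    intro n
    have h1 : (f.symm n) ^ e' = (f.symm n) ^ e := by
      have h3 := he.two (f.symm n)
      obtain ⟨j, hj⟩ := h3
      have h4 : (f.symm n) = (f.symm n * (f.symm n ^ e)⁻¹) * (f.symm n ^ e) := by group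
      have h5 : OE S e' := by
        have h6 := he'.sub N
        refine ⟨fun g => ?_, fun g hg => ?_, fun g => ?_⟩
        · rw [← orderOf_injective f.toMonoidHom f.injective]
          have := h6.odd (f g)
          simpa using this
        · have h7 := h6.fix (f g) (by
            have := orderOf_injective f.toMonoidHom f.injective g
            simp only [MulEquiv.toMonoidHom_eq_coe, MonoidHom.coe_coe] at this
            rwa [this])
          apply f.injective
          rw [map_pow]
          exact h7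
        · obtain ⟨j, hj⟩ := h6.two (f g)
          refine ⟨j, f.injective ?_⟩
          rw [map_pow, map_mul, map_inv, map_pow, map_one]
          exact hj
      conv_lhs => rw [h4]
      exact h5.pow_mul ((Commute.self_pow _ e).mul_left ((Commute.refl _).inv_left)) hj
        (he.odd _)
    have h2 : n ^ e' = n ^ e := by
      apply f.symm.injective
      rw [map_pow, map_pow]
      exact h1
    rw [← Subgroup.coe_pow, h2]
  refine main hk N h2 he' X' ?_ ?_ ?_ ?_ ?_ ?_ (a := a) (s := s) (c := c) ?_ ?_ hs2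
  · rintro x ⟨s, -, rfl⟩
    exact (f s).2
  · rintro x ⟨s, hs, rfl⟩
    rw [Subgroup.orderOf_coe, MulEquiv.orderOf_eq]
    exact hXo s hs
  · rintro ⟨s, hs, h1⟩
    apply hX1
    have : f s = 1 := Subtype.ext h1
    rw [← f.injective (this.trans (map_one f).symm)]
    exact hs
  · rintro x ⟨s, hs, rfl⟩
    exact ⟨s⁻¹, hXi s hs, by rw [map_inv]; rfl⟩
  · rintro n hn x ⟨s, hs, rfl⟩
    refine ⟨f.symm ⟨n, hn⟩ * s * (f.symm ⟨n, hn⟩)⁻¹, hXn _ s hs, ?_⟩
    rw [map_mul, map_mul, map_inv, MulEquiv.apply_symm_apply]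
    rfl
  · rintro g ⟨x, ⟨s, hs, rfl⟩, h1⟩ y ⟨t, ht, rfl⟩
    let α : S ≃* S := (f.trans (MulAut.conjNormal g : MulAut N)).trans f.symm
    have hα : ∀ s : S, (f (α s) : A) = g * f s * g⁻¹ := by
      intro s
      show ((f (f.symm ((MulAut.conjNormal g : MulAut N) (f s))) : N) : A) = _
      rw [MulEquiv.apply_symm_apply, MulAut.conjNormal_apply]
    have h3 : ∀ s : S, g * (f s : A) * g⁻¹ ∈ X' ↔ α s ∈ X := by
      intro s
      rw [← hα, hmem, MulEquiv.symm_apply_apply]
    exact (h3 t).2 (hXa α ⟨s, hs, (h3 s).1 h1⟩ t ht)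
  · rw [← hs]
    refine Nat.card_congr (Equiv.subtypeEquiv f.symm.toEquiv fun n => ?_)
    rw [hee, hmem, map_pow]
    rfl
  · rw [← hc]
    exact Nat.card_congr f.symm.toEquiv


/-- conjugation invariance of `IsConj x` -/
theorem isConj_mul_inv {S : Type*} [Group S] {x y g : S} (h : IsConj x y) :
    IsConj x (g * y * g⁻¹) := h.trans (isConj_iff.2 ⟨g, rfl⟩)

theorem isConj_map {S : Type*} [Group S] (α : S ≃* S) {x y : S} (h : IsConj x y) :
    IsConj (α x) (α y) := by
  obtain ⟨t, rfl⟩ := isConj_iff.1 h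
  exact isConj_iff.2 ⟨α t, by rw [map_mul, map_mul, map_inv]⟩

theorem isConj_inv_inv {S : Type*} [Group S] {x y : S} (h : IsConj x y) : IsConj x⁻¹ y⁻¹ := by
  obtain ⟨t, rfl⟩ := isConj_iff.1 h
  exact isConj_iff.2 ⟨t, by group⟩

/-- General section criterion: `d` is an exponent such that `{g | g ^ d ~ y}` is the section. -/
theorem of_exp (S : Type u) [Group S] [Finite S] {e d : ℕ} (he : OE S e)
    (hd : ∀ g : S, (g ^ e) ^ d = g ^ d) (y : S) (hy1 : y ≠ 1) (hreal : IsConj y y⁻¹) {a s c : ℕ}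
    (hs : Nat.card {g : S // g ^ d = y} = 2 ^ a * s)
    (hc : Nat.card (Subgroup.centralizer ({y} : Set S)) = 2 ^ a * c) (hs2 : ¬ 2 ∣ s)
    (hc2 : ¬ 2 ∣ c) : EvenOver S := by
  classical
  have := Fintype.ofFinite S
  have hconjinv : ∀ z : S, IsConj y z → IsConj y z⁻¹ := by
    intro z hz
    exact hreal.trans (isConj_inv_inv hz)
  have hsec := H611.RealSection.card_section y d
  have h1 : (Finset.univ.filter fun g : S => g ^ d = y).card = 2 ^ a * s := by
    rw [← hs, Nat.card_eq_fintype_card, Fintype.card_subtype]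
  obtain ⟨b, n, hn, hG⟩ := Nat.exists_eq_two_pow_mul_odd (Nat.card_pos (α := S)).ne'
  set m := (Finset.univ.filter fun g : S => IsConj y (g ^ d)).card with hm
  have h2 : Nat.card S * s = c * m := by
    rw [h1, hc] at hsec
    have h3 : Nat.card S * (2 ^ a * s) = (2 ^ a * c) * m := by exact_mod_cast hsec
    have h4 : 2 ^ a * (Nat.card S * s) = 2 ^ a * (c * m) := by
      rw [← mul_assoc (2 ^ a) c m, ← h3]
      ring
    exact Nat.eq_of_mul_eq_mul_left (pow_pos (by norm_num) a) h4
  have h3 : 2 ^ b ∣ m := by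
    have h4 : 2 ^ b ∣ c * m := by
      rw [← h2, hG]
      exact ⟨n * s, by ring⟩
    exact (Nat.Coprime.pow_left b ((Nat.Prime.coprime_iff_not_dvd Nat.prime_two).2 hc2)).dvd_of_dvd_mul_left h4
  obtain ⟨s', hs'⟩ := h3
  have h4 : ¬ 2 ∣ s' := by
    intro h5
    have h6 : n * s = c * s' := by
      rw [hG, hs'] at h2
      have h7 : 2 ^ b * (n * s) = 2 ^ b * (c * s') := by
        rw [← mul_assoc, h2]
        ring
      exact Nat.eq_of_mul_eq_mul_left (pow_pos (by norm_num) b) h7
    have h7 : 2 ∣ n * s := by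
      rw [h6]
      exact Dvd.dvd.mul_left h5 c
    rcases (Nat.Prime.dvd_mul Nat.prime_two).1 h7 with h8 | h8
    · rw [← even_iff_two_dvd, ← Nat.not_odd_iff_even] at h8
      exact h8 hn
    · exact hs2 h8
  refine of_set S he {x | Odd (orderOf x) ∧ IsConj y (x ^ d)} (fun x hx => hx.1) ?_ ?_ ?_ ?_
    (a := b) (s := s') (c := n) ?_ hG h4
  · rintro ⟨-, h5⟩
    rw [one_pow] at h5
    exact hy1 (isConj_one_left.1 h5)
  · rintro x ⟨h5, h6⟩
    refine ⟨by rwa [orderOf_inv], ?_⟩
    rw [inv_pow]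
    exact hconjinv _ h6
  · rintro g x ⟨h5, h6⟩
    refine ⟨?_, ?_⟩
    · have h7 : orderOf (g * x * g⁻¹) = orderOf x := by
        have := orderOf_injective (MulAut.conj g).toMonoidHom (MulAut.conj g).injective x
        simpa using this
      rwa [h7]
    · rw [conj_pow]
      exact isConj_mul_inv h6
  · rintro α ⟨x, ⟨h5, h6⟩, h7, h8⟩ z ⟨h9, h10⟩
    refine ⟨by rwa [MulEquiv.orderOf_eq], ?_⟩
    rw [← map_pow] at h8 ⊢
    exact h8.trans ((isConj_map α h6.symm).trans (isConj_map α h10))
  · rw [← hs', hm, ← Fintype.card_subtype, ← Nat.card_eq_fintype_card]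
    refine Nat.card_congr (Equiv.subtypeEquivRight fun g => ?_)
    show (Odd (orderOf (g ^ e)) ∧ IsConj y ((g ^ e) ^ d)) ↔ _
    rw [hd]
    exact ⟨fun h => h.2, fun h => ⟨he.odd g, h⟩⟩

/-- **Criterion (G)**, numerical form. -/
theorem of_card (S : Type u) [Group S] [Finite S] (y : S) (hy1 : y ≠ 1) (hodd : Odd (orderOf y))
    (hreal : IsConj y y⁻¹) {a s c : ℕ}
    (hs : Nat.card {u : S // Commute u y ∧ ∃ j : ℕ, u ^ 2 ^ j = 1} = 2 ^ a * s)
    (hc : Nat.card (Subgroup.centralizer ({y} : Set S)) = 2 ^ a * c) (hs2 : ¬ 2 ∣ s)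
    (hc2 : ¬ 2 ∣ c) : EvenOver S := by
  obtain ⟨e, he⟩ := exists_OE (G := S)
  refine of_exp S he (fun g => he.fix _ (he.odd g)) y hy1 hreal (a := a) (s := s) (c := c) ?_ hc hs2 hc2
  rw [← hs]
  refine Nat.card_congr ⟨fun g => ⟨g.1 * y⁻¹, ?_, ?_⟩, fun u => ⟨u.1 * y, ?_⟩, ?_, ?_⟩
  · have h1 : Commute (g.1 * (g.1 ^ e)⁻¹) (g.1 ^ e) :=
      (Commute.self_pow g.1 e).mul_left ((Commute.refl (g.1 ^ e)).inv_left)
    rwa [g.2] at h1
  · obtain ⟨j, hj⟩ := he.two g.1
    rw [g.2] at hj
    exact ⟨j, hj⟩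
  · obtain ⟨j, hj⟩ := u.2.2
    exact he.pow_mul u.2.1 hj hodd
  · intro g
    apply Subtype.ext
    simp
  · intro u
    apply Subtype.ext
    simp

/-- **Criterion (G)**: a real element `y ≠ 1` of odd order whose centralizer has a normal Sylow
2-subgroup. -/
theorem of_twoClosed (S : Type u) [Group S] [Finite S] (y : S) (hy1 : y ≠ 1)
    (hodd : Odd (orderOf y)) (hreal : IsConj y y⁻¹)
    (P : Sylow 2 (Subgroup.centralizer ({y} : Set S)))
    (hP : (P : Subgroup (Subgroup.centralizer ({y} : Set S))).Normal) : EvenOver S := by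
  have hp2 : Fact (Nat.Prime 2) := ⟨Nat.prime_two⟩
  obtain ⟨a, c, hc2, hcard⟩ := Nat.exists_eq_pow_mul_and_not_dvd (n := Nat.card (Subgroup.centralizer ({y} : Set S)))
    Nat.card_pos.ne' 2 (by norm_num)
  have hmem : ∀ u : Subgroup.centralizer ({y} : Set S), (∃ j : ℕ, u ^ 2 ^ j = 1) ↔ u ∈ P := by
    intro u
    constructor
    · rintro ⟨j, hj⟩
      obtain ⟨i, _, hi⟩ := (Nat.dvd_prime_pow Nat.prime_two).1 (orderOf_dvd_of_pow_eq_one hj)
      have h1 : IsPGroup 2 (Subgroup.zpowers u) :=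
        IsPGroup.of_card (n := i) (by rw [Nat.card_zpowers, hi])
      obtain ⟨Q, hQ⟩ := h1.exists_le_sylow
      have : Q = P := by
        have := Sylow.unique_of_normal P hP
        exact Subsingleton.elim _ _
      rw [this] at hQ
      exact hQ (Subgroup.mem_zpowers u)
    · intro hu
      obtain ⟨j, hj⟩ := P.2 ⟨u, hu⟩
      exact ⟨j, by simpa using congrArg Subtype.val hj⟩
  refine of_card S y hy1 hodd hreal (a := a) (s := 1) (c := c) ?_ hcard (by norm_num) hc2
  rw [mul_one]
  have h1 : Nat.card P = 2 ^ a := by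
    rw [P.card_eq_multiplicity, hcard]
    congr 1
    rw [Nat.factorization_mul (by positivity) (by rintro rfl; simp at hc2),
      Finsupp.add_apply, Nat.factorization_eq_zero_of_not_dvd hc2, add_zero,
      Nat.Prime.factorization_pow Nat.prime_two, Finsupp.single_eq_same]
  rw [← h1]
  have hcomm : ∀ u : S, Commute u y ↔ u ∈ Subgroup.centralizer ({y} : Set S) := by
    intro u
    rw [Subgroup.mem_centralizer_singleton_iff]
    exact Iff.rfl
  refine Nat.card_congr ⟨fun u => ⟨⟨u.1, (hcomm _).1 u.2.1⟩, (hmem _).1 ?_⟩,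
    fun v => ⟨v.1.1, (hcomm _).2 v.1.2, ?_⟩, ?_, ?_⟩
  · obtain ⟨j, hj⟩ := u.2.2
    exact ⟨j, Subtype.ext hj⟩
  · obtain ⟨j, hj⟩ := (hmem v.1).2 v.2
    exact ⟨j, by simpa using congrArg Subtype.val hj⟩
  · intro u
    rfl
  · intro v
    rfl

/-- the centralizer has odd order -/
theorem of_odd (S : Type u) [Group S] [Finite S] (y : S) (hy1 : y ≠ 1) (hreal : IsConj y y⁻¹)
    (h : Odd (Nat.card (Subgroup.centralizer ({y} : Set S)))) : EvenOver S := by
  have hp2 : Fact (Nat.Prime 2) := ⟨Nat.prime_two⟩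
  have hodd : Odd (orderOf y) := by
    have h1 : y ∈ Subgroup.centralizer ({y} : Set S) := by
      rw [Subgroup.mem_centralizer_singleton_iff]
    have h2 := orderOf_dvd_natCard (⟨y, h1⟩ : Subgroup.centralizer ({y} : Set S))
    rw [Subgroup.orderOf_mk] at h2
    exact Odd.of_dvd_nat h h2
  obtain ⟨P⟩ : Nonempty (Sylow 2 (Subgroup.centralizer ({y} : Set S))) := inferInstance
  refine of_twoClosed S y hy1 hodd hreal P ?_
  have h1 : (P : Subgroup (Subgroup.centralizer ({y} : Set S))) = ⊥ := by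
    rw [← Subgroup.card_eq_one]
    have h2 : Nat.card P ∣ Nat.card (Subgroup.centralizer ({y} : Set S)) :=
      Subgroup.card_subgroup_dvd_card _
    obtain ⟨j, hj⟩ := IsPGroup.iff_card.1 P.2
    rw [hj] at h2 ⊢
    rcases Nat.eq_zero_or_pos j with rfl | hj0
    · rfl
    · exfalso
      have h3 : 2 ∣ Nat.card (Subgroup.centralizer ({y} : Set S)) :=
        (dvd_pow_self 2 hj0.ne').trans h2
      rw [← even_iff_two_dvd, ← Nat.not_odd_iff_even] at h3
      exact h3 h
  rw [h1]
  infer_instance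

/-- the centralizer is commutative -/
theorem of_comm (S : Type u) [Group S] [Finite S] (y : S) (hy1 : y ≠ 1) (hodd : Odd (orderOf y))
    (hreal : IsConj y y⁻¹) (hcomm : ∀ a b : S, Commute a y → Commute b y → Commute a b) :
    EvenOver S := by
  have hp2 : Fact (Nat.Prime 2) := ⟨Nat.prime_two⟩
  obtain ⟨P⟩ : Nonempty (Sylow 2 (Subgroup.centralizer ({y} : Set S))) := inferInstance
  refine of_twoClosed S y hy1 hodd hreal P ⟨fun n hn g => ?_⟩
  have h1 : g * n = n * g := Subtype.ext (hcomm g n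
    (Subgroup.mem_centralizer_singleton_iff.1 g.2) (Subgroup.mem_centralizer_singleton_iff.1 n.2))
  have : g * n * g⁻¹ = n := by rw [h1]; group
  rwa [this]

/-- **Criterion (F)**: a real `r`-element `y ≠ 1`, `r` an odd prime, whose centralizer has a normal
`r`-complement. -/
theorem of_complement (S : Type u) [Group S] [Finite S] {r : ℕ} (hr : r.Prime) (hr2 : r ≠ 2)
    (y : S) (hy1 : y ≠ 1) (hy : ∃ i : ℕ, y ^ r ^ i = 1) (hreal : IsConj y y⁻¹)
    (K : Subgroup (Subgroup.centralizer ({y} : Set S))) [K.Normal]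
    (hK : ¬ r ∣ Nat.card K) (hKi : ∃ i : ℕ, K.index = r ^ i) : EvenOver S := by
  have : Fact r.Prime := ⟨hr⟩
  obtain ⟨e, he⟩ := exists_OE (G := S)
  -- an exponent for the `r`-part
  obtain ⟨b, n, hn, hG⟩ := Nat.exists_eq_pow_mul_and_not_dvd (n := Nat.card S)
    Nat.card_pos.ne' r hr.ne_one
  have hcop : Nat.Coprime (r ^ b) n := Nat.Coprime.pow_left b ((Nat.Prime.coprime_iff_not_dvd hr).2 hn)
  obtain ⟨d, hd1, hd0⟩ := Nat.chineseRemainder hcop 1 0
  have hdv : ∀ g : S, orderOf g ∣ r ^ b * n := fun g => hG ▸ orderOf_dvd_natCard g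
  have hrodd : Odd r := hr.odd_of_ne_two hr2
  -- `r`-elements are fixed, `r'`-elements are killed
  have hfix : ∀ g : S, (∃ i : ℕ, g ^ r ^ i = 1) → g ^ d = g := by
    rintro g ⟨i, hi⟩
    have h1 : orderOf g ∣ r ^ b := by
      have h2 : Nat.Coprime (orderOf g) n :=
        Nat.Coprime.coprime_dvd_left (orderOf_dvd_of_pow_eq_one hi)
          (Nat.Coprime.pow_left i ((Nat.Prime.coprime_iff_not_dvd hr).2 hn))
      exact h2.dvd_of_dvd_mul_right (hdv g)
    nth_rewrite 2 [← pow_one g]
    rw [pow_eq_pow_iff_modEq]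
    exact hd1.of_dvd h1
  have hkill : ∀ g : S, ¬ r ∣ orderOf g → g ^ d = 1 := by
    intro g hg
    have h1 : orderOf g ∣ n := by
      have h2 : Nat.Coprime (orderOf g) (r ^ b) :=
        (Nat.Coprime.pow_left b ((Nat.Prime.coprime_iff_not_dvd hr).2 hg)).symm
      exact h2.dvd_of_dvd_mul_left (hdv g)
    exact orderOf_dvd_iff_pow_eq_one.1 (h1.trans ((Nat.modEq_zero_iff_dvd).1 hd0))
  have hrpow : ∀ g : S, (g ^ d) ^ r ^ b = 1 := by
    intro g
    rw [← pow_mul, ← orderOf_dvd_iff_pow_eq_one]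
    refine (hdv g).trans ?_
    rw [mul_comm d]
    exact mul_dvd_mul dvd_rfl ((Nat.modEq_zero_iff_dvd).1 hd0)
  have hrest : ∀ g : S, ¬ r ∣ orderOf (g * (g ^ d)⁻¹) := by
    intro g
    have hc : Commute g (g ^ d)⁻¹ := (Commute.self_pow g d).inv_right
    have h1 : (g * (g ^ d)⁻¹) ^ n = 1 := by
      rw [hc.mul_pow, inv_pow, mul_inv_eq_one, ← pow_mul, pow_eq_pow_iff_modEq]
      have h5 : 1 * n ≡ d * n [MOD r ^ b * n] := (hd1.symm).mul_right' n
      rw [one_mul] at h5
      exact h5.of_dvd (hdv g)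
    exact fun h2 => hn (h2.trans (orderOf_dvd_of_pow_eq_one h1))
  have hde : ∀ g : S, (g ^ e) ^ d = g ^ d := by
    intro g
    have h1 : (g ^ e) ^ d = (g ^ d) ^ e := by rw [← pow_mul, mul_comm, pow_mul]
    rw [h1]
    apply he.fix
    exact Odd.of_dvd_nat (hrodd.pow) (orderOf_dvd_of_pow_eq_one (hrpow g))
  -- the `r'`-elements of `C` form `K`
  obtain ⟨i, hi⟩ := hKi
  have hmem : ∀ u : Subgroup.centralizer ({y} : Set S), u ∈ K ↔ ¬ r ∣ orderOf u := by
    intro u
    constructor
    · intro hu h1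
      apply hK
      refine h1.trans ?_
      have := orderOf_dvd_natCard (⟨u, hu⟩ : K)
      rwa [Subgroup.orderOf_mk] at this
    · intro hu
      have h1 : (QuotientGroup.mk u : Subgroup.centralizer ({y} : Set S) ⧸ K) ^ r ^ i = 1 := by
        rw [← hi]
        exact pow_card_eq_one'
      have h2 : orderOf (QuotientGroup.mk u : Subgroup.centralizer ({y} : Set S) ⧸ K) ∣ orderOf u := orderOf_map_dvd (QuotientGroup.mk' K) u
      have h3 : orderOf (QuotientGroup.mk u : Subgroup.centralizer ({y} : Set S) ⧸ K) = 1 := by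
        obtain ⟨j, _, hj⟩ := (Nat.dvd_prime_pow hr).1 (orderOf_dvd_of_pow_eq_one h1)
        rcases Nat.eq_zero_or_pos j with rfl | hj0
        · rw [hj, pow_zero]
        · exact absurd ((dvd_pow_self r hj0.ne').trans (hj ▸ h2)) hu
      exact (QuotientGroup.eq_one_iff u).1 (orderOf_eq_one_iff.1 h3)
  obtain ⟨a, s, hs2, hs⟩ := Nat.exists_eq_pow_mul_and_not_dvd (n := Nat.card K)
    Nat.card_pos.ne' 2 (by norm_num)
  refine of_exp S he hde y hy1 hreal (a := a) (s := s) (c := s * r ^ i) ?_ ?_ hs2 ?_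
  · rw [← hs]
    have hcomm : ∀ u : S, Commute u y ↔ u ∈ Subgroup.centralizer ({y} : Set S) := by
      intro u
      rw [Subgroup.mem_centralizer_singleton_iff]
      exact Iff.rfl
    have hc1 : ∀ g : S, g ^ d = y → g * y⁻¹ ∈ Subgroup.centralizer ({y} : Set S) := by
      intro g hg
      rw [← hcomm, ← hg]
      exact (Commute.self_pow g d).mul_left ((Commute.refl (g ^ d)).inv_left)
    refine Nat.card_congr ⟨fun g => ⟨⟨g.1 * y⁻¹, hc1 _ g.2⟩, ?_⟩, fun u => ⟨u.1.1 * y, ?_⟩, ?_, ?_⟩
    · rw [hmem, Subgroup.orderOf_mk]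
      have := hrest g.1
      rwa [g.2] at this
    · have h1 : Commute (u.1.1 : S) y := (hcomm _).2 u.1.2
      have h2 := (hmem u.1).1 u.2
      rw [← Subgroup.orderOf_coe] at h2
      rw [h1.mul_pow, hkill _ h2, one_mul, hfix y hy]
    · intro g
      apply Subtype.ext
      simp
    · intro u
      apply Subtype.ext
      apply Subtype.ext
      simp
  · rw [← K.card_mul_index, hi, hs, mul_assoc]
  · intro h1
    rcases (Nat.Prime.dvd_mul Nat.prime_two).1 h1 with h2 | h2
    · exact hs2 h2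
    · have := Nat.Prime.dvd_of_dvd_pow Nat.prime_two h2
      rw [Nat.prime_dvd_prime_iff_eq Nat.prime_two hr] at this
      exact hr2 this.symm

/-! ### Permutation characters -/

/-- **Criterion (D)**: a finite `G`-set `X` with `|X| + #(N-orbits on X × X)` odd. -/
theorem crit_set {G : Type*} [Group G] {k : ℕ} [Fintype G] (h : KM G k) (N : Subgroup G)
    [N.Normal] (X : Type*) [Finite X] [MulAction G X]
    (hodd : Odd (Nat.card X + Nat.card (MulAction.orbitRel.Quotient N (X × X)))) :
    ∃ χ : IrrCharacter G, Fx k (χ : G → ℂ) ∧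
      Even (charDegree (χ : G → ℂ)) ∧ ∃ n ∈ N, (χ : G → ℂ) n ≠ (χ : G → ℂ) 1 := by
  classical
  have := Fintype.ofFinite N
  have := Fintype.ofFinite X
  obtain ⟨M, hM⟩ := ExistsModular.exists_isPModular Nat.prime_two
  have hprime : M.IsPrime := Local.isPrime_of_isPModular hM
  set Ψ : G → ℂ := fun g : G => (Nat.card (MulAction.fixedBy X g) : ℂ) with hΨ
  have hchar : IsCharacter G Ψ := Cfsg.Agent.S0157.isCharacter_fixedBy X
  have hle : ∀ (g : G) (m : ℕ), MulAction.fixedBy X g ⊆ MulAction.fixedBy X (g ^ m) := by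
    intro g m x hx
    induction m with
    | zero => rw [pow_zero, MulAction.mem_fixedBy, one_smul]
    | succ m ih =>
      rw [MulAction.mem_fixedBy] at ih hx ⊢
      rw [pow_succ, mul_smul, hx, ih]
  have hk : Fx k Ψ := by
    intro g
    have h1 : MulAction.fixedBy X (g ^ k) = MulAction.fixedBy X g := by
      apply Set.Subset.antisymm
      · have := hle (g ^ k) k
        rwa [h.sq] at this
      · exact hle g k
    simp only [hΨ, h1]
  have hinv : ∀ g, Ψ g⁻¹ = Ψ g := by
    intro g
    simp only [hΨ, MulAction.fixedBy_inv]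
  have hreal : ∀ g, conj (Ψ g) = Ψ g := fun g => Complex.conj_natCast _
  obtain ⟨χ, h1, h2, h3, -⟩ := crit h N hM (Core.isCharacter_isClassFunction hchar) hinv hreal hk
    (fun χ => by
      obtain ⟨m, hm⟩ := Core.classInner_isNat hchar (Core.isIrr_isCharacter χ.2)
      rw [hm]
      exact Local.memLocalRing_natCast m) (by
    set q := Nat.card (MulAction.orbitRel.Quotient N (X × X)) with hq
    have h4 : classInner (fun n : N => Ψ n) (fun n : N => Ψ n) = (q : ℂ) := by
      rw [Core.classInner_def]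
      have := Fintype.ofFinite (MulAction.orbitRel.Quotient N (X × X))
      have h5 := MulAction.sum_card_fixedBy_eq_card_orbits_mul_card_group N (X × X)
      have h6 : ∀ n : N, Fintype.card (MulAction.fixedBy (X × X) n) =
          Nat.card (MulAction.fixedBy X (n : G)) * Nat.card (MulAction.fixedBy X (n : G)) := by
        intro n
        rw [← Nat.card_eq_fintype_card, ← Nat.card_prod]
        refine Nat.card_congr ⟨fun x => (⟨x.1.1, ?_⟩, ⟨x.1.2, ?_⟩),
          fun x => ⟨(x.1.1, x.2.1), ?_⟩, ?_, ?_⟩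
        · have := x.2
          rw [MulAction.mem_fixedBy] at this ⊢
          exact congrArg Prod.fst this
        · have := x.2
          rw [MulAction.mem_fixedBy] at this ⊢
          exact congrArg Prod.snd this
        · rw [MulAction.mem_fixedBy]
          exact Prod.ext x.1.2 x.2.2
        · intro x
          rfl
        · intro x
          rfl
      have h7 : ∑ n : N, Ψ n * conj (Ψ n) = (q : ℂ) * Nat.card N := by
        have h8 : ∀ n : N, Ψ n * conj (Ψ n) =
            ((Fintype.card (MulAction.fixedBy (X × X) n) : ℕ) : ℂ) := by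
          intro n
          rw [h6, hreal]
          simp only [hΨ]
          push_cast
          ring
        rw [Finset.sum_congr rfl fun n _ => h8 n, ← Nat.cast_sum, h5, hq,
          Nat.card_eq_fintype_card, Nat.card_eq_fintype_card]
        push_cast
        ring
      rw [h7]
      have h8 : (Nat.card N : ℂ) ≠ 0 := Core.card_ne_zero_complex
      field_simp
    have h5 : Ψ 1 = (Nat.card X : ℂ) := by
      simp only [hΨ]
      congr 1
      refine Nat.card_congr ⟨fun x => x.1, fun x => ⟨x, ?_⟩, ?_, ?_⟩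
      · rw [MulAction.mem_fixedBy, one_smul]
      · intro x
        rfl
      · intro x
        rfl
    rw [h4, h5]
    intro h6
    have h7 : ((q : ℂ) - (Nat.card X : ℂ) ^ 2) = (((q : ℤ) - (Nat.card X : ℤ) ^ 2 : ℤ) : ℂ) := by
      push_cast
      ring
    rw [h7, Local.memLocalIdeal_intCast_iff hM] at h6
    have h8 : ¬ (2 : ℤ) ∣ (Nat.card X : ℤ) + q := by
      rw [← even_iff_two_dvd, Int.not_even_iff_odd]
      exact_mod_cast hodd
    apply h8
    have h9 : (Nat.card X : ℤ) + q = ((q : ℤ) - (Nat.card X : ℤ) ^ 2) +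
        (Nat.card X : ℤ) * ((Nat.card X : ℤ) + 1) := by ring
    rw [h9]
    exact dvd_add h6 (even_iff_two_dvd.1 (Int.even_mul_succ_self _)))
  exact ⟨χ, h1, h2, h3⟩

/-- simultaneous conjugacy of pairs of members of a set of subgroups -/
def pairRel {S : Type*} [Group S] (𝒳 : Set (Subgroup S)) : Setoid (𝒳 × 𝒳) where
  r x y := ∃ g : S, (x.1 : Subgroup S).map (MulAut.conj g).toMonoidHom = y.1 ∧
    (x.2 : Subgroup S).map (MulAut.conj g).toMonoidHom = y.2
  iseqv :=
    { refl := by
        intro x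
        have key : ∀ H : Subgroup S, H.map (MulAut.conj (1 : S)).toMonoidHom = H := by
          intro H
          convert Subgroup.map_id H
          ext z
          simp
        exact ⟨1, key _, key _⟩
      symm := by
        rintro x y ⟨g, h1, h2⟩
        have key : ∀ H : Subgroup S, (H.map (MulAut.conj g).toMonoidHom).map
            (MulAut.conj g⁻¹).toMonoidHom = H := by
          intro H
          rw [Subgroup.map_map]
          convert Subgroup.map_id H
          ext z
          simp [mul_assoc]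
        exact ⟨g⁻¹, by rw [← h1, key], by rw [← h2, key]⟩
      trans := by
        rintro x y z ⟨g, h1, h2⟩ ⟨t, h3, h4⟩
        have key : ∀ H : Subgroup S, (H.map (MulAut.conj g).toMonoidHom).map
            (MulAut.conj t).toMonoidHom = H.map (MulAut.conj (t * g)).toMonoidHom := by
          intro H
          rw [Subgroup.map_map]
          congr 1
          ext z
          simp [mul_assoc]
        exact ⟨t * g, by rw [← key, h1, h3], by rw [← key, h2, h4]⟩ }

/-- **Criterion (D)** for a characteristic set of subgroups. -/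
theorem of_subgroups (S : Type u) [Group S] [Finite S] (𝒳 : Set (Subgroup S))
    (hX : ∀ α : S ≃* S, ∀ H ∈ 𝒳, H.map α.toMonoidHom ∈ 𝒳)
    (hodd : Odd (Nat.card 𝒳 + Nat.card (Quotient (pairRel 𝒳)))) : EvenOver S := by
  intro A _ _ N hN f h2 k hk
  classical
  obtain ⟨f⟩ := f
  have := Fintype.ofFinite A
  let φ : A → (S ≃* S) := fun g => (f.trans (MulAut.conjNormal g : MulAut N)).trans f.symm
  have hφ : ∀ (g : A) (s : S), φ g s = f.symm ((MulAut.conjNormal g : MulAut N) (f s)) :=
    fun g s => rfl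
  have hφ1 : ∀ H : Subgroup S, H.map (φ 1).toMonoidHom = H := by
    intro H
    convert Subgroup.map_id H
    ext s
    simp [hφ]
  have hφm : ∀ (g t : A) (H : Subgroup S), H.map (φ (g * t)).toMonoidHom =
      (H.map (φ t).toMonoidHom).map (φ g).toMonoidHom := by
    intro g t H
    rw [Subgroup.map_map]
    congr 1
    ext s
    simp [hφ]
  let _ : MulAction A 𝒳 :=
    { smul := fun g H => ⟨(H : Subgroup S).map (φ g).toMonoidHom, hX _ _ H.2⟩
      one_smul := fun H => Subtype.ext (hφ1 H)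
      mul_smul := fun g t H => Subtype.ext (hφm g t H) }
  have hsmul : ∀ (g : A) (H : 𝒳), ((g • H : 𝒳) : Subgroup S) =
      (H : Subgroup S).map (φ g).toMonoidHom := fun g H => rfl
  have hconj : ∀ n : N, φ (n : A) = MulAut.conj (f.symm n) := by
    intro n
    ext s
    rw [hφ]
    have h3 : (MulAut.conjNormal (n : A) : MulAut N) (f s) = n * f s * n⁻¹ := by
      apply Subtype.ext
      rw [MulAut.conjNormal_apply]
      rfl
    rw [h3, map_mul, map_mul, map_inv, MulEquiv.symm_apply_apply, MulAut.conj_apply]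
  have : Finite 𝒳 := Subtype.finite
  refine crit_set hk N 𝒳 ?_
  have h3 : Nat.card (MulAction.orbitRel.Quotient N (𝒳 × 𝒳)) = Nat.card (Quotient (pairRel 𝒳)) := by
    refine Nat.card_congr (Quotient.congr (Equiv.refl _) fun x y => ?_)
    rw [Equiv.refl_apply, Equiv.refl_apply]
    have h4 : (MulAction.orbitRel N (𝒳 × 𝒳)) x y ↔ (pairRel 𝒳) x y := by
      rw [MulAction.orbitRel_apply]
      constructor
      · rintro ⟨n, hn⟩
        apply (pairRel 𝒳).symm
        refine ⟨f.symm n, ?_, ?_⟩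
        · rw [← hconj, ← hsmul, ← hn]
          rfl
        · rw [← hconj, ← hsmul, ← hn]
          rfl
      · intro h5
        obtain ⟨g, h6, h7⟩ := (pairRel 𝒳).symm h5
        refine ⟨f g, ?_⟩
        have h8 : φ ((f g : N) : A) = MulAut.conj g := by
          rw [hconj, MulEquiv.symm_apply_apply]
        refine Prod.ext (Subtype.ext ?_) (Subtype.ext ?_)
        · rw [← h6, ← h8]
          rfl
        · rw [← h7, ← h8]
          rfl
    exact h4
  rw [h3]
  exact hodd

end Cfsg.Agent.H612.Even
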