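import Cfsg.Agent.H612.BNCosets
import Cfsg.Agent.Tits.Parabolic
import Cfsg.Agent.Schreier.BNSch
import Cfsg.Agent.LieRecognition.CoxForm
import Cfsg.Agent.S0312

/-!
# Criterion (D) for parabolic subgroups

In a finite group with a split (B,N)-pair of type `M` every automorphism maps `P_J` to a conjugate
of `P_{σ J}` for a symmetry `σ` of `M`. If `J` is invariant under all symmetries, `p` is odd and
`|W : W_J| + |W_J \ W / W_J|` is odd, then `EvenOver S`.
-/

set_option autoImplicit false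
set_option linter.unusedSectionVars false

namespace Cfsg.Agent.H612.BNAut

open Cfsg Cfsg.Agent.LieExceptional.BNPairCore Cfsg.Agent.Tits.Core Cfsg.Agent.Tits.OfBN
open Cfsg.Agent.H612.Even Cfsg.Agent.H612.MinNormal Cfsg.Agent.H612.SelfNorm
open Cfsg.Agent.H612.BNCosets

theorem simple_ne_one {I W : Type*} [Group W] {M : CoxeterMatrix I} (cs : CoxeterSystem M W)
    (i : I) : cs.simple i ≠ 1 := by
  intro h
  have h1 := cs.length_simple i
  rw [h, cs.length_one] at h1
  exact absurd h1 (by norm_num)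

/-- the order of a dihedral parabolic subgroup of a Coxeter group -/
theorem card_WJ_pair {I W : Type*} [Group W] [Finite W] [Finite I] {M : CoxeterMatrix I}
    (cs : CoxeterSystem M W) {i j : I} (hij : i ≠ j) : Nat.card (WJ cs {i, j}) = 2 * M i j := by
  classical
  have := Fintype.ofFinite I
  have hi : cs.simple i ∈ WJ cs {i, j} := Subgroup.subset_closure ⟨i, Or.inl rfl, rfl⟩
  have hj : cs.simple j ∈ WJ cs {i, j} := Subgroup.subset_closure ⟨j, Or.inr rfl, rfl⟩
  have h1 := Cfsg.Agent.Tits.Parabolic.card_eq_two_mul_orderOf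
    (a := (⟨cs.simple i, hi⟩ : WJ cs {i, j})) (b := (⟨cs.simple j, hj⟩ : WJ cs {i, j}))
    (Subtype.ext (cs.simple_mul_simple_self i)) (Subtype.ext (cs.simple_mul_simple_self j))
    (fun h => simple_ne_one cs i (congrArg Subtype.val h))
    (fun h => simple_ne_one cs j (congrArg Subtype.val h)) ?_
  · rw [h1]
    congr 1
    have h2 : orderOf ((⟨cs.simple i, hi⟩ : WJ cs {i, j}) * ⟨cs.simple j, hj⟩) =
        orderOf (cs.simple i * cs.simple j) := by
      rw [← Subgroup.orderOf_coe]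
      rfl
    rw [h2]
    exact Cfsg.Agent.LieRecognition.CoxForm.orderOf_eq cs i j
  · rw [eq_top_iff]
    rintro ⟨x, hx⟩ -
    have h2 : ∀ y (hy : y ∈ WJ cs {i, j}), (⟨y, hy⟩ : WJ cs {i, j}) ∈
        Subgroup.closure {(⟨cs.simple i, hi⟩ : WJ cs {i, j}), ⟨cs.simple j, hj⟩} := by
      intro y hy
      have hy' := hy
      unfold WJ at hy
      induction hy using Subgroup.closure_induction with
      | mem z hz =>
        obtain ⟨k, hk, rfl⟩ := hz
        rcases hk with rfl | hk
        · exact Subgroup.subset_closure (Or.inl rfl)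
        · rw [Set.mem_singleton_iff] at hk
          subst hk
          exact Subgroup.subset_closure (Or.inr rfl)
      | one => exact one_mem _
      | mul a b ha hb iha ihb => exact mul_mem (iha ha) (ihb hb)
      | inv a ha iha => exact inv_mem (iha ha)
    exact h2 x hx

variable {S : Type*} [Group S] (P : Cfsg.BNPair S) {I : Type*} {M : CoxeterMatrix I}
  (e : I ≃ P.S)

theorem wt_eq_wt_iff {g g' : S} :
    wt P g = wt P g' ↔ ∃ b ∈ P.B, ∃ c ∈ P.B, g' = b * g * c := by
  constructor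
  · intro h
    obtain ⟨n, hn⟩ := exists_mem_C P g
    rw [wt_of_mem P hn] at h
    have hn' := mem_C_of_wt P h.symm
    obtain ⟨b₁, hb₁, b₂, hb₂, h1⟩ := mem_C.1 hn
    obtain ⟨c₁, hc₁, c₂, hc₂, h2⟩ := mem_C.1 hn'
    exact ⟨c₁ * b₁⁻¹, mul_mem hc₁ (inv_mem hb₁), b₂⁻¹ * c₂, mul_mem (inv_mem hb₂) hc₂,
      by rw [h1, h2]; group⟩
  · rintro ⟨b, hb, c, hc, rfl⟩
    rw [wt_mul_right P _ hc, wt_mul_left P _ hb]

theorem gens_singleton (i : I) : gens P e {i} = {((e i : P.S) : S)} := by
  unfold gens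
  rw [Set.image_singleton]

theorem PJ_le_iff {J K : Set I} : PJ P e J ≤ PJ P e K ↔ J ⊆ K := by
  unfold PJ
  rw [Cfsg.Agent.S0316.parabolic_le_iff P (gens_subset P e J) (gens_subset P e K)]
  unfold gens
  exact Set.image_subset_image_iff (fun i j h => e.injective (Subtype.ext h))

/-- An automorphism preserving `B` permutes the parabolic subgroups as a permutation of the nodes. -/
theorem exists_perm [Finite I] (β : S ≃* S) (hβ : P.B.map β.toMonoidHom = P.B) :
    ∃ σ : Equiv.Perm I, ∀ K : Set I, (PJ P e K).map β.toMonoidHom = PJ P e (σ '' K) := by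
  have hex : ∀ i, ∃ j, (PJ P e {i}).map β.toMonoidHom = PJ P e {j} := by
    intro i
    obtain ⟨t, ht, h⟩ := Cfsg.Agent.Schreier.BNSch.exists_map_eq P β hβ (e i).2
    refine ⟨e.symm ⟨t, ht⟩, ?_⟩
    unfold PJ
    rw [gens_singleton, gens_singleton, Equiv.apply_symm_apply]
    exact h
  choose σ hσ using hex
  have hσi : Function.Injective σ := by
    intro i j hij
    have h1 : (PJ P e {i}).map β.toMonoidHom = (PJ P e {j}).map β.toMonoidHom := by
      rw [hσ, hσ, hij]
    have h2 := Subgroup.map_injective β.injective h1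
    exact Set.singleton_subset_singleton.1 ((PJ_le_iff P e).1 h2.le)
  refine ⟨Equiv.ofBijective σ (Finite.injective_iff_bijective.1 hσi), fun K => ?_⟩
  have hB : P.B ≤ (PJ P e K).map β.toMonoidHom := by
    rw [← hβ]
    exact Subgroup.map_mono (B_le_PJ P e K)
  have key : ∀ i, ((e (σ i) : P.S) : S) ∈ (PJ P e K).map β.toMonoidHom ↔ i ∈ K := by
    intro i
    have h1 : PJ P e {σ i} ≤ (PJ P e K).map β.toMonoidHom ↔ i ∈ K := by
      rw [← hσ, Subgroup.map_le_map_iff_of_injective β.injective, PJ_le_iff,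
        Set.singleton_subset_iff]
    rw [← h1]
    unfold PJ
    rw [gens_singleton]
    constructor
    · intro h
      refine sup_le hB ?_
      rw [Subgroup.closure_le, Set.singleton_subset_iff]
      exact h
    · intro h
      exact h ((le_sup_right : Subgroup.closure {((e (σ i) : P.S) : S)} ≤ _)
        (Subgroup.subset_closure rfl))
  rw [eq_parabolic hB]
  unfold PJ
  congr 1
  ext s
  constructor
  · rintro ⟨hs, hs'⟩
    obtain ⟨i, hi⟩ := (Finite.injective_iff_surjective.1 hσi) (e.symm ⟨s, hs⟩)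
    have h1 : ((e (σ i) : P.S) : S) = s := by rw [hi, Equiv.apply_symm_apply]
    rw [← h1] at hs'
    exact ⟨σ i, ⟨i, (key i).1 hs', rfl⟩, h1⟩
  · rintro ⟨_, ⟨i, hi, rfl⟩, rfl⟩
    exact ⟨(e (σ i)).2, (key i).2 hi⟩

section Coxeter

variable [hN : ((P.B ⊓ P.N).subgroupOf P.N).Normal] (cs : CoxeterSystem M (WP P))
  (hcs : ∀ i, cs.simple i = QuotientGroup.mk (⟨(e i : S), P.subset (e i).2⟩ : P.N))

include hcs in
theorem card_WJ_le [Finite S] (β : S ≃* S) (hβ : P.B.map β.toMonoidHom = P.B) {K K' : Set I}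
    (hK : (PJ P e K).map β.toMonoidHom = PJ P e K') :
    Nat.card (WJ cs K) ≤ Nat.card (WJ cs K') := by
  have hrep : ∀ w : WP P, ∃ g, wt P g = w := wt_surjective P
  choose rep hr using hrep
  have hmem : ∀ w : WJ cs K, wt P (β (rep w)) ∈ WJ cs K' := by
    intro w
    have h1 : rep w ∈ PJ P e K := (mem_PJ P e cs hcs).2 (by rw [hr]; exact w.2)
    have h2 : β (rep w) ∈ PJ P e K' := by
      rw [← hK]
      exact ⟨_, h1, rfl⟩
    exact (mem_PJ P e cs hcs).1 h2
  refine Nat.card_le_card_of_injective (fun w : WJ cs K => (⟨_, hmem w⟩ : WJ cs K')) ?_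
  intro v w hvw
  have h1 : wt P (β (rep v)) = wt P (β (rep w)) := congrArg Subtype.val hvw
  obtain ⟨b, hb, c, hc, h2⟩ := (wt_eq_wt_iff P).1 h1
  rw [← hβ] at hb hc
  obtain ⟨b', hb', rfl⟩ := hb
  obtain ⟨c', hc', rfl⟩ := hc
  have h3 : rep w = b' * rep v * c' := by
    apply β.injective
    rw [map_mul, map_mul]
    exact h2
  have h4 : wt P (rep v) = wt P (rep w) := (wt_eq_wt_iff P).2 ⟨b', hb', c', hc', h3⟩
  rw [hr, hr] at h4
  exact Subtype.ext h4

theorem map_symm {H K : Subgroup S} (β : S ≃* S) (h : H.map β.toMonoidHom = K) :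
    K.map β.symm.toMonoidHom = H := by
  rw [← h, Subgroup.map_map]
  have : β.symm.toMonoidHom.comp β.toMonoidHom = MonoidHom.id S := by
    ext x
    exact β.symm_apply_apply x
  rw [this, Subgroup.map_id]

include hcs in
/-- the permutation of the nodes is a symmetry of the Coxeter matrix -/
theorem label_eq [Finite S] (β : S ≃* S) (hβ : P.B.map β.toMonoidHom = P.B)
    (σ : Equiv.Perm I) (hσ : ∀ K : Set I, (PJ P e K).map β.toMonoidHom = PJ P e (σ '' K))
    (i j : I) : M (σ i) (σ j) = M i j := by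
  have hfin : Finite I := Cfsg.Agent.FixBN.OfBN.finite_I e
  by_cases hij : i = j
  · subst hij
    rw [M.diagonal, M.diagonal]
  · have h1 : σ '' {i, j} = {σ i, σ j} := Set.image_pair _ _ _
    have h2 := card_WJ_le P e cs hcs β hβ (hσ {i, j})
    have h3 := card_WJ_le P e cs hcs β.symm (map_symm β hβ) (map_symm β (hσ {i, j}))
    rw [h1, card_WJ_pair cs hij, card_WJ_pair cs (σ.injective.ne hij)] at h2 h3
    omega

end Coxeter

section Split

variable {P} {p : ℕ} {U : Subgroup S} (hs : FixBN.Split P p U)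

include hs in
theorem exists_conj_B [Finite S] [Fact p.Prime] (α : S ≃* S) :
    ∃ g, P.B.map α.toMonoidHom = cj g P.B := by
  obtain ⟨Q, hQ⟩ := CharTwo.exists_sylow hs
  obtain ⟨g, hg⟩ := MulAction.exists_smul_eq S Q (Q.mapSurjective (f := α.toMonoidHom) α.surjective)
  refine ⟨g, ?_⟩
  have h1 : U.map α.toMonoidHom = cj g U := by
    have h2 : ((g • Q : Sylow p S) : Subgroup S) = (Q : Subgroup S).map α.toMonoidHom := by
      rw [hg]
      exact Sylow.coe_mapSurjective _ _
    rw [← hQ, ← h2]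
    rfl
  rw [← hs.normalizer_eq]
  show _ = Subgroup.map _ _
  rw [Subgroup.map_equiv_normalizer_eq U α, h1, Subgroup.map_equiv_normalizer_eq U (MulAut.conj g)]
  rfl

include hs in
/-- **Automorphisms and parabolic subgroups** -/
theorem exists_conj_PJ [Finite S] [Fact p.Prime] {e : I ≃ P.S} (hM : BNType P M e) (J : Set I)
    (hJ : ∀ σ : Equiv.Perm I, (∀ i j, M (σ i) (σ j) = M i j) → σ '' J = J) (α : S ≃* S) :
    ∃ g, (PJ P e J).map α.toMonoidHom = cj g (PJ P e J) := by
  obtain ⟨hN, cs, hcs⟩ := hM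
  have hfin : Finite I := Cfsg.Agent.FixBN.OfBN.finite_I e
  obtain ⟨g, hg⟩ := exists_conj_B hs α
  refine ⟨g, ?_⟩
  let β : S ≃* S := α.trans (MulAut.conj g⁻¹)
  have hβ : ∀ H : Subgroup S, H.map β.toMonoidHom = cj g⁻¹ (H.map α.toMonoidHom) := by
    intro H
    show _ = Subgroup.map _ _
    rw [Subgroup.map_map]
    rfl
  have hβB : P.B.map β.toMonoidHom = P.B := by
    rw [hβ, hg, ← cj_mul, inv_mul_cancel, cj_one]
  obtain ⟨σ, hσ⟩ := exists_perm P e β hβB
  have h1 := hσ J
  rw [hJ σ (label_eq P e cs hcs β hβB σ hσ), hβ] at h1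
  have h2 := congrArg (cj g) h1
  rwa [← cj_mul, mul_inv_cancel, cj_one] at h2

end Split

universe u

/-- **Criterion (D) for parabolic subgroups in odd characteristic.** -/
theorem of_split {S : Type u} [Group S] [Finite S] {P : Cfsg.BNPair S} {p : ℕ} {U : Subgroup S}
    (hs : FixBN.Split P p U) (hp : p.Prime) (hp2 : p ≠ 2) {I : Type*} {M : CoxeterMatrix I}
    {e : I ≃ P.S} (hM : BNType P M e) (J : Set I)
    (hJ : ∀ σ : Equiv.Perm I, (∀ i j, M (σ i) (σ j) = M i j) → σ '' J = J)
    (hodd : ∀ {W : Type u} [Group W] [Finite W] (cs : CoxeterSystem M W),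
      Odd ((WJ cs J).index +
        Nat.card (DoubleCoset.Quotient (WJ cs J : Set W) (WJ cs J : Set W)))) : EvenOver S := by
  have : Fact p.Prime := ⟨hp⟩
  refine of_selfNorm S (PJ P e J) (Cfsg.Agent.S0312.result P (gens_subset P e J))
    (exists_conj_PJ hs hM J hJ) ?_
  obtain ⟨hN, cs, hcs⟩ := hM
  rw [card_doubleCoset P e cs hcs]
  have h1 := index_parity e hs cs hcs hp hp2 J
  have h2 := hodd cs
  rw [Nat.odd_iff] at h2 ⊢
  rw [Nat.add_mod, h1, ← Nat.add_mod, h2]

/-- the same for a split (B,N)-pair of type `M` -/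
theorem of_hasSplitT {S : Type u} [Group S] [Finite S] {p : ℕ} (hp : p.Prime) (hp2 : p ≠ 2)
    {I : Type*} {M : CoxeterMatrix I} (h : ∃ (P : Cfsg.BNPair S) (U : Subgroup S) (e : I ≃ P.S),
      FixBN.Split P p U ∧ BNType P M e) (J : Set I)
    (hJ : ∀ σ : Equiv.Perm I, (∀ i j, M (σ i) (σ j) = M i j) → σ '' J = J)
    (hodd : ∀ {W : Type u} [Group W] [Finite W] (cs : CoxeterSystem M W),
      Odd ((WJ cs J).index +
        Nat.card (DoubleCoset.Quotient (WJ cs J : Set W) (WJ cs J : Set W)))) : EvenOver S := by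
  obtain ⟨P, U, e, hs, hM⟩ := h
  exact of_split hs hp hp2 hM J hJ hodd

end Cfsg.Agent.H612.BNAut
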