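import Cfsg.Agent.H612.Base
import Cfsg.Agent.H610.OddIndex
import Cfsg.Agent.CharactersDeep.IndFun
import Cfsg.Agent.CharactersDeep.CosetAverage
import Cfsg.Agent.Blocks.Deflate

/-!
# Groups all of whose fixed characters have odd degree: quotients, subgroups, induction

* `AO G k`: every `k`-fixed irreducible character of `G` has odd degree.
* `AO.quot`, `AO.odd_index`: inherited by quotients and by normal subgroups of odd index.
* `irr_ind`: a character of `T` not trivial on `S ≤ T` which is trivial on the other conjugates of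
  `S` induces irreducibly.
-/

set_option autoImplicit false

namespace Cfsg.Agent.H612.Heredity

open Cfsg Cfsg.Agent.Characters Cfsg.Agent.Blocks Cfsg.Agent.H686.CharKit
open Cfsg.Agent.H610.Twist Cfsg.Agent.H612.Base
open scoped ComplexConjugate

universe u

variable {G : Type u} [Group G] {k : ℕ}

/-- Every fixed irreducible character has odd degree. -/
def AO (G : Type u) [Group G] (k : ℕ) : Prop :=
  ∀ χ : IrrCharacter G, Fx k (χ : G → ℂ) → Odd (charDegree (χ : G → ℂ))

theorem charDegree_eq_of_one {H : Type*} [Group H] {χ : G → ℂ} {ψ : H → ℂ} (h : χ 1 = ψ 1) :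
    charDegree χ = charDegree ψ := by
  unfold charDegree
  rw [h]

theorem AO.quot [Finite G] (N : Subgroup G) [N.Normal] (h : AO G k) : AO (G ⧸ N) k := by
  intro ψ hψ
  have h1 := h (infl N ψ) (fun g => by
    rw [infl_apply, infl_apply, QuotientGroup.mk_pow]
    exact hψ g)
  have h2 : charDegree (infl N ψ : G → ℂ) = charDegree (ψ : G ⧸ N → ℂ) :=
    charDegree_eq_of_one (by rw [infl_apply]; rfl)
  rwa [h2] at h1

/-- Replacing the exponent by one which is a `2`-power root of unity modulo the group order. -/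
theorem exists_tw [Finite G] (h : KM G k) : ∃ k' e : ℕ, H610.OddIndex.Tw G k' e ∧
    ∀ g : G, g ^ k' = g ^ k := by
  obtain ⟨a, m, hm, hG⟩ := Nat.exists_eq_two_pow_mul_odd (Nat.card_pos (α := G)).ne'
  have hmpos : 0 < m := hm.pos
  obtain ⟨k', hk1, hk2⟩ := Nat.chineseRemainder
    (Nat.Coprime.pow_left a (Nat.coprime_two_left.2 hm)) k (m - 1)
  have hkm : m ∣ k' + 1 := by
    have h1 : k' + 1 ≡ (m - 1) + 1 [MOD m] := hk2.add_right 1
    rw [Nat.sub_add_cancel hmpos] at h1
    exact (Nat.modEq_zero_iff_dvd).1 (h1.trans ((Nat.modEq_zero_iff_dvd).2 dvd_rfl))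
  have hpow : ∀ g : G, g ^ k' = g ^ k := by
    intro g
    obtain ⟨i, j, hj, hgij⟩ := Nat.exists_eq_two_pow_mul_odd (orderOf_pos g).ne'
    have hd : 2 ^ i * j ∣ 2 ^ a * m := by
      rw [← hgij, ← hG]
      exact orderOf_dvd_natCard g
    have hi : 2 ^ i ∣ 2 ^ a := by
      have h1 : 2 ^ i ∣ 2 ^ a * m := (Dvd.intro _ rfl).trans hd
      exact (Nat.Coprime.pow_left i (Nat.coprime_two_left.2 hm)).dvd_of_dvd_mul_right h1
    have hjm : j ∣ m := by
      have h1 : j ∣ 2 ^ a * m := (Dvd.intro_left _ rfl).trans hd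
      exact (Nat.Coprime.pow_right a (Nat.coprime_two_right.2 hj)).dvd_of_dvd_mul_left h1
    have h1 : j ∣ k + 1 := by
      have h2 : orderOf (g ^ 2 ^ i) = j := by
        rw [orderOf_pow, hgij, Nat.gcd_eq_right (Dvd.intro _ rfl),
          Nat.mul_div_cancel_left _ (pow_pos (by norm_num) i)]
      have h3 := h.odd (g ^ 2 ^ i) (by rw [h2]; exact hj)
      rw [← h2]
      apply orderOf_dvd_of_pow_eq_one
      rw [pow_succ, h3, inv_mul_cancel]
    have h2 : j ∣ k' + 1 := hjm.trans hkm
    have h3 : k' ≡ k [MOD j] := by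
      have h4 : k' + 1 ≡ k + 1 [MOD j] :=
        ((Nat.modEq_zero_iff_dvd).2 h2).trans ((Nat.modEq_zero_iff_dvd).2 h1).symm
      exact Nat.ModEq.add_right_cancel' 1 h4
    rw [pow_eq_pow_iff_modEq, hgij]
    exact (Nat.modEq_and_modEq_iff_modEq_mul
      (Nat.Coprime.pow_left i (Nat.coprime_two_left.2 hj))).1 ⟨hk1.of_dvd hi, h3⟩
  have hKM : KM G k' := ⟨fun g => by rw [hpow, hpow, h.sq], fun g hg => by rw [hpow, h.odd g hg]⟩
  refine ⟨k', a + 1, ⟨hKM.coprime, ?_, hKM.odd⟩, hpow⟩
  rw [hG]
  refine (Nat.modEq_and_modEq_iff_modEq_mul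
    (Nat.Coprime.pow_left a (Nat.coprime_two_left.2 hm))).1 ⟨?_, ?_⟩
  · rcases Nat.eq_zero_or_pos a with rfl | ha
    · rw [pow_zero]
      exact Nat.modEq_one
    · have h1 : Nat.Coprime k' (2 ^ a) :=
        Nat.Coprime.coprime_dvd_right (hG ▸ Dvd.intro _ rfl) hKM.coprime
      have h2 := Nat.ModEq.pow_totient h1
      have h3 : Nat.totient (2 ^ a) ∣ 2 ^ (a + 1) := by
        rw [Nat.totient_prime_pow Nat.prime_two ha]
        simpa using pow_dvd_pow 2 (by omega : a - 1 ≤ a + 1)
      obtain ⟨t, ht⟩ := h3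
      rw [ht, pow_mul]
      simpa using h2.pow t
  · have h1 : k' ^ 2 ≡ 1 [MOD m] := by
      have h2 : (k' : ℤ) ≡ -1 [ZMOD m] := by
        rw [Int.modEq_iff_dvd]
        have h3 : ((m : ℕ) : ℤ) ∣ ((k' + 1 : ℕ) : ℤ) := by exact_mod_cast hkm
        have h4 : (-1 - (k' : ℤ)) = -((k' + 1 : ℕ) : ℤ) := by push_cast; ring
        rw [h4]
        exact (dvd_neg).2 h3
      have h3 := h2.pow 2
      rw [← Int.natCast_modEq_iff]
      push_cast
      simpa using h3
    rw [pow_succ, pow_mul']
    simpa using h1.pow (2 ^ a)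

/-- the degree formula of Clifford's theorem -/
theorem degree_dvd [Fintype G] (N : Subgroup G) [N.Normal] [Fintype N] (χ : IrrCharacter G)
    (φ : IrrCharacter N) (hφ : classInner (fun n : N => (χ : G → ℂ) n) (φ : N → ℂ) ≠ 0) :
    charDegree (φ : N → ℂ) ∣ charDegree (χ : G → ℂ) := by
  classical
  have hc : IsCharacter N (fun n : N => (χ : G → ℂ) n) :=
    Clifford.isCharacter_restrict N (Core.isIrr_isCharacter χ.2)
  obtain ⟨e, he⟩ := Core.classInner_isNat hc (Core.isIrr_isCharacter φ.2)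
  have h2 := CharactersDeep.CliffordSum.restrict_eq_smul_sum N χ.2 φ.2 hφ
  set t := (Finset.univ.image (fun x : G => (φ : N → ℂ) ∘ (MulAut.conjNormal x : MulAut N))) with ht
  have h3 : (charDegree (χ : G → ℂ) : ℂ) = e * (t.card * charDegree (φ : N → ℂ)) := by
    have h4 := congrFun h2 1
    simp only [Pi.smul_apply, smul_eq_mul, Finset.sum_apply] at h4
    rw [he] at h4
    rw [charDegree_irr]
    have h5 : ∀ ψ ∈ t, ψ 1 = charDegree (φ : N → ℂ) := by
      intro ψ hψ
      obtain ⟨x, -, rfl⟩ := Finset.mem_image.1 hψ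
      rw [charDegree_irr, Function.comp_apply, map_one]
    rw [Finset.sum_congr rfl h5, Finset.sum_const, nsmul_eq_mul] at h4
    exact h4
  have h4 : charDegree (χ : G → ℂ) = e * (t.card * charDegree (φ : N → ℂ)) := by exact_mod_cast h3
  rw [h4, ← mul_assoc]
  exact Dvd.intro_left _ rfl

theorem AO.odd_index [Finite G] (hk : KM G k) (N : Subgroup G) [hN : N.Normal] (hidx : Odd N.index)
    (h : AO G k) : AO N k := by
  classical
  have := Fintype.ofFinite G
  have := Fintype.ofFinite N
  intro θ hθ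
  obtain ⟨k', e, htw, hpow⟩ := exists_tw hk
  obtain ⟨χ, h1, h2⟩ := H610.OddIndex.exists_over htw N hidx θ (fun n => by
    have h3 : n ^ k' = n ^ k := Subtype.ext (by rw [Subgroup.coe_pow, Subgroup.coe_pow, hpow])
    rw [h3]
    exact hθ n)
  have h3 := h χ (fun g => by rw [← hpow]; exact h2 g)
  exact Odd.of_dvd_nat h3 (degree_dvd N χ θ h1)

/-- The sums over the cosets of a normal subgroup vanish for an irreducible character which is not
trivial on it. -/
theorem sum_coset_eq_zero [Finite G] (N : Subgroup G) [N.Normal] [Fintype N] (χ : IrrCharacter G)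
    (h : ∃ n ∈ N, (χ : G → ℂ) n ≠ (χ : G → ℂ) 1) (x : G) :
    ∑ n : N, (χ : G → ℂ) ((n : G) * x) = 0 := by
  have hN0 : (Nat.card N : ℂ) ≠ 0 := Core.card_ne_zero_complex
  have h1 : ∑ n : N, (χ : G → ℂ) n = 0 := by
    by_contra hne
    obtain ⟨ψ, hψ⟩ := Deflate.exists_deflation N (χ : G → ℂ) χ.2 hne
    obtain ⟨n, hn, hne'⟩ := h
    apply hne'
    have h2 := congrFun hψ n
    have h3 := congrFun hψ 1
    rw [h2, h3, Function.comp_apply, Function.comp_apply, (QuotientGroup.eq_one_iff n).2 hn,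
      QuotientGroup.mk_one]
  have h2 := CharactersDeep.CosetAverage.isCharacter_cosetAverage N (Core.isIrr_isCharacter χ.2)
  obtain ⟨m, ρ, hρ⟩ := Core.isCharacter_def.1 h2
  have h3 := congrFun hρ 1
  simp only [mul_one] at h3
  rw [h1, mul_zero, Representation.char_one] at h3
  have hm : m = 0 := by
    have h4 : (m : ℂ) = 0 := by simpa using h3
    exact_mod_cast h4
  subst hm
  have h4 := congrFun hρ x
  have h5 : ρ.character x = 0 := by
    show LinearMap.trace ℂ _ (ρ x) = 0
    have : ρ x = 0 := Subsingleton.elim _ _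
    rw [this, map_zero]
  rw [h5] at h4
  have h6 := h4.symm
  rcases mul_eq_zero.1 h6 with h7 | h7
  · exact absurd (inv_eq_zero.1 h7) hN0
  · exact h7

/-- An induced character is irreducible when the conjugates of `S` by the elements outside `T` lie
in the kernel and `S` acts without fixed vectors. -/
theorem irr_ind [Fintype G] (T S : Subgroup G) (hST : S ≤ T) (ψ : T → ℂ)
    (hψ : IsIrrCharacter T ψ)
    (h1 : ∀ x : T, ∑ᶠ s : S, ψ (x * ⟨s, hST s.2⟩) = 0)
    (h2 : ∀ g ∉ T, ∀ s : S, ∃ h : g⁻¹ * s * g ∈ T, ∀ x : T, ψ (x * ⟨g⁻¹ * s * g, h⟩) = ψ x) :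
    IsIrrCharacter G (indFun T ψ) := by
  classical
  have := Fintype.ofFinite T
  have := Fintype.ofFinite S
  have hchar := CharactersDeep.IndFun.isCharacter_indFun T (Core.isIrr_isCharacter hψ)
  apply Core.isIrr_of_classInner_self hchar
  rw [CharactersDeep.IndFun.classInner_indFun T ψ _ (CharactersDeep.IndFun.isClassFunction_indFun T ψ),
    Core.classInner_def]
  have hT0 : (Nat.card T : ℂ) ≠ 0 := Core.card_ne_zero_complex
  have hS0 : (Nat.card S : ℂ) ≠ 0 := Core.card_ne_zero_complex
  -- the inner sums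
  have key : ∀ g : G, ∑ x : T, ψ x * conj (extendByZero T ψ (g⁻¹ * x * g)) =
      if g ∈ T then (Nat.card T : ℂ) else 0 := by
    intro g
    split_ifs with hg
    · have h3 : ∀ x : T, extendByZero T ψ (g⁻¹ * x * g) = ψ x := by
        intro x
        have h4 : g⁻¹ * (x : G) * g ∈ T := T.mul_mem (T.mul_mem (T.inv_mem hg) x.2) hg
        rw [CharactersDeep.IndFun.extendByZero_mem T ψ h4]
        have h5 := Core.isIrr_isClassFunction hψ x (⟨g, hg⟩⁻¹ : T)
        rw [← h5]
        congr 1
        apply Subtype.ext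
        simp
      rw [Finset.sum_congr rfl fun x _ => by rw [h3 x]]
      have h4 := Core.classInner_irr_self hψ
      rw [Core.classInner_def] at h4
      field_simp at h4
      exact h4
    · -- shift by the elements of `S`
      set J := ∑ x : T, ψ x * conj (extendByZero T ψ (g⁻¹ * x * g)) with hJ
      have hshift : ∀ s : S, J =
          ∑ x : T, ψ (x * ⟨s, hST s.2⟩) * conj (extendByZero T ψ (g⁻¹ * x * g)) := by
        intro s
        rw [hJ]
        symm
        refine Fintype.sum_equiv (Equiv.mulRight (⟨s, hST s.2⟩ : T)) _ _ fun x => ?_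
        rw [Equiv.coe_mulRight]
        congr 2
        obtain ⟨hm, hs⟩ := h2 g hg s
        have h5 : g⁻¹ * ((x * ⟨s, hST s.2⟩ : T) : G) * g =
            (g⁻¹ * (x : G) * g) * (g⁻¹ * s * g) := by
          rw [Subgroup.coe_mul]
          group
        rw [h5]
        by_cases hx : g⁻¹ * (x : G) * g ∈ T
        · rw [CharactersDeep.IndFun.extendByZero_mem T ψ hx,
            CharactersDeep.IndFun.extendByZero_mem T ψ (T.mul_mem hx hm)]
          exact (hs ⟨_, hx⟩).symm
        · rw [CharactersDeep.IndFun.extendByZero_notMem T ψ hx,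
            CharactersDeep.IndFun.extendByZero_notMem T ψ (fun h6 => hx ?_)]
          have h7 := T.mul_mem h6 (T.inv_mem hm)
          rwa [mul_inv_cancel_right] at h7
      have hsum : (Nat.card S : ℂ) * J = 0 := by
        have h5 : ∑ s : S, J = (Nat.card S : ℂ) * J := by
          rw [Finset.sum_const, nsmul_eq_mul, Finset.card_univ, Nat.card_eq_fintype_card]
        rw [← h5, Finset.sum_congr rfl fun s _ => hshift s, Finset.sum_comm]
        refine Finset.sum_eq_zero fun x _ => ?_
        rw [← Finset.sum_mul, ← finsum_eq_sum_of_fintype, h1 x, zero_mul]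
      exact (mul_eq_zero.1 hsum).resolve_left hS0
  have h3 : ∑ x : T, ψ x * conj (indFun T ψ (x : G)) =
      (Nat.card T : ℂ)⁻¹ * ∑ g : G, ∑ x : T, ψ x * conj (extendByZero T ψ (g⁻¹ * x * g)) := by
    rw [Finset.sum_comm, Finset.mul_sum]
    refine Finset.sum_congr rfl fun x _ => ?_
    rw [CharactersDeep.IndFun.indFun_def, map_mul, map_inv₀, Complex.conj_natCast, map_sum,
      Finset.mul_sum, Finset.mul_sum, Finset.mul_sum]
    refine Finset.sum_congr rfl fun g _ => ?_
    ring
  rw [h3, Finset.sum_congr rfl fun g _ => key g, Finset.sum_ite, Finset.sum_const_zero, add_zero,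
    Finset.sum_const, nsmul_eq_mul]
  have h4 : ((Finset.univ.filter fun g : G => g ∈ T).card : ℂ) = Nat.card T := by
    rw [← Fintype.card_subtype, Nat.card_eq_fintype_card]
  rw [h4]
  field_simp

theorem fx_ind [Fintype G] (hk : KM G k) (T : Subgroup G) (ψ : T → ℂ) (hψ : Fx k ψ) :
    Fx k (indFun T ψ) := by
  intro g
  rw [CharactersDeep.IndFun.indFun_def, CharactersDeep.IndFun.indFun_def]
  congr 1
  refine Finset.sum_congr rfl fun x _ => ?_
  have h1 : x⁻¹ * g ^ k * x = (x⁻¹ * g * x) ^ k := by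
    have := conj_pow (a := x⁻¹) (b := g) (i := k)
    rw [inv_inv] at this
    exact this.symm
  rw [h1]
  by_cases hx : x⁻¹ * g * x ∈ T
  · rw [CharactersDeep.IndFun.extendByZero_mem T ψ hx,
      CharactersDeep.IndFun.extendByZero_mem T ψ (T.pow_mem hx k)]
    exact hψ ⟨_, hx⟩
  · rw [CharactersDeep.IndFun.extendByZero_notMem T ψ hx,
      CharactersDeep.IndFun.extendByZero_notMem T ψ (fun h2 => hx ?_)]
    have h3 := T.pow_mem h2 k
    rwa [hk.sq] at h3

theorem indFun_one [Fintype G] (T : Subgroup G) (ψ : T → ℂ) :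
    indFun T ψ 1 = (T.index : ℂ) * ψ 1 := by
  rw [CharactersDeep.IndFun.indFun_def]
  have h1 : ∀ x : G, extendByZero T ψ (x⁻¹ * 1 * x) = ψ 1 := by
    intro x
    have h2 : x⁻¹ * 1 * x = 1 := by group
    rw [h2, CharactersDeep.IndFun.extendByZero_mem T ψ T.one_mem]
    rfl
  rw [Finset.sum_congr rfl fun x _ => h1 x, Finset.sum_const, nsmul_eq_mul, Finset.card_univ,
    ← Nat.card_eq_fintype_card, ← T.card_mul_index]
  have hT0 : (Nat.card T : ℂ) ≠ 0 := Core.card_ne_zero_complex
  push_cast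
  field_simp

end Cfsg.Agent.H612.Heredity
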