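import Cfsg.Agent.H694.DTypes
import Cfsg.Agent.H288.BnWitt
import Cfsg.Agent.H612.CharTwo

/-!
# Rank two classical groups in odd characteristic: `DData`

`dData_of_noSwap` : type `B₂` with no automorphism exchanging the two classes of maximal parabolic subgroups.
`dData_PSp4`, `dData_PSU4`, `dData_PSU5`.
-/

set_option autoImplicit false
set_option linter.unusedSectionVars false

namespace Cfsg.Agent.H612.RowB2

open Cfsg Cfsg.Agent.LieExceptional.BNPairCore Cfsg.Agent.Tits.Core Cfsg.Agent.FixBN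
open Cfsg.Agent.H288.BnAbs Cfsg.Agent.H288.BnTwo Cfsg.Agent.H694
open Cfsg.Agent.Omega.ML.Ex.Typ (HasSplitT HasRGDT)

universe u

variable {K : Type u} [Group K] {p : ℕ}

theorem map_conj_map (A : Subgroup K) (g : K) (α : K ≃* K) :
    (A.map (MulAut.conj g).toMonoidHom).map α.toMonoidHom =
      (A.map α.toMonoidHom).map (MulAut.conj (α g)).toMonoidHom := by
  rw [Subgroup.map_map, Subgroup.map_map]
  congr 1
  ext x
  simp

theorem no_map [Finite K] [Fact p.Prime] {U : Sylow p K} {P : Set (Fin 2) → Subgroup K}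
    (hP : ParSys p U P)
    (hs : ∀ α : MulAut K, (U : Subgroup K).map α.toMonoidHom = U →
      (P {0}).map α.toMonoidHom ≠ P {1}) (α : K ≃* K) (g : K) :
    (P {0}).map α.toMonoidHom ≠ (P {1}).map (MulAut.conj g).toMonoidHom := by
  intro h
  let β : MulAut K := MulAut.conj g⁻¹ * (α : MulAut K)
  have hβ : ∀ A : Subgroup K, A.map β.toMonoidHom =
      (A.map α.toMonoidHom).map (MulAut.conj g⁻¹).toMonoidHom := by
    intro A
    rw [Subgroup.map_map]
    rfl
  have h1 : (P {0}).map β.toMonoidHom = P {1} := by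
    rw [hβ, h, map_conj_conj, inv_mul_cancel, map_conj_one]
  let U' : Sylow p K := U.mapSurjective (f := β.toMonoidHom) (MulEquiv.surjective β)
  have hU' : (U' : Subgroup K) = (U : Subgroup K).map β.toMonoidHom := Sylow.coe_mapSurjective _ _
  have h2 : (U' : Subgroup K) ≤ P {1} := by
    rw [hU', ← h1]
    exact Subgroup.map_mono (hP.U_le {0})
  obtain ⟨c, hc, hcU⟩ := exists_conj_le U U' (hP.U_le {1}) h2
  have hγ : ∀ A : Subgroup K, A.map (MulAut.conj c * β : MulAut K).toMonoidHom =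
      (A.map β.toMonoidHom).map (MulAut.conj c).toMonoidHom := by
    intro A
    rw [Subgroup.map_map]
    rfl
  refine hs (MulAut.conj c * β) ?_ ?_
  · rw [hγ, ← hU', hcU]
  · rw [hγ, h1]
    ext x
    constructor
    · rintro ⟨y, hy, rfl⟩
      exact mul_mem (mul_mem hc hy) (inv_mem hc)
    · intro hx
      refine ⟨c⁻¹ * x * c, mul_mem (mul_mem (inv_mem hc) hx) hc, ?_⟩
      show c * (c⁻¹ * x * c) * c⁻¹ = x
      group

theorem sub_ne : ∀ i : Fin 2, 1 - i ≠ i := by decide

theorem fin_two {k j : Fin 2} (h : k ≠ j) (l : Fin 2) : l = k ∨ l = j := by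
  revert h l
  revert k j
  decide

theorem ident [Finite K] [Fact p.Prime] {U : Sylow p K} {P : Set (Fin 2) → Subgroup K}
    (hP : ParSys p U P) {Q : Cfsg.BNPair K} {V : Subgroup K} (S : Split Q p V) (e : Fin 2 ≃ Q.S) :
    ∃ (g : K) (σ : Fin 2 → Fin 2), Function.Injective σ ∧
      ∀ i, (PJ Q e {i}).map (MulAut.conj g).toMonoidHom = P {σ i} := by
  obtain ⟨V', hV'⟩ := CharTwo.exists_sylow S
  obtain ⟨g, hg⟩ := MulAction.exists_smul_eq K V' U
  have h1 : V.map (MulAut.conj g).toMonoidHom = (U : Subgroup K) := by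
    rw [← hg, ← hV']
    rfl
  have h2 : Q.B.map (MulAut.conj g).toMonoidHom =
      Subgroup.normalizer ((U : Subgroup K) : Set K) := by
    rw [← S.normalizer_eq, ← h1]
    exact Subgroup.map_equiv_normalizer_eq V (MulAut.conj g)
  have hinj : Function.Injective (fun i => (e i : K)) := fun i j h => e.injective (Subtype.ext h)
  have hPJ : ∀ {J L : Set (Fin 2)}, PJ Q e J = PJ Q e L → J = L := by
    intro J L h
    exact hinj.image_injective (Cfsg.Agent.S0314.result Q (PJ_sub e J) (PJ_sub e L) h)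
  have hcinj : Function.Injective (fun A : Subgroup K => A.map (MulAut.conj g).toMonoidHom) :=
    Subgroup.map_injective (MulAut.conj g).injective
  have h3 : ∀ i, ∃ j, (PJ Q e {i}).map (MulAut.conj g).toMonoidHom = P {j} := by
    intro i
    obtain ⟨J, hJ⟩ := hP.surj ((PJ Q e {i}).map (MulAut.conj g).toMonoidHom) (by
      rw [← h2]
      exact Subgroup.map_mono (B_le_PJ e {i}))
    have hJ0 : J ≠ ∅ := by
      rintro rfl
      obtain ⟨L, hL⟩ := hP.surj _ le_rfl
      have h4 : P ∅ = Subgroup.normalizer ((U : Subgroup K) : Set K) := by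
        apply le_antisymm _ (hP.norm_le ∅)
        rw [hL, hP.le_iff]
        exact Set.empty_subset _
      rw [h4, ← h2] at hJ
      have h5 : PJ Q e {i} = PJ Q e ∅ := by
        rw [hcinj hJ]
        unfold PJ
        rw [Set.image_empty]
        show Q.B = Q.B ⊔ Subgroup.closure ∅
        rw [Subgroup.closure_empty, sup_bot_eq]
      exact Set.singleton_ne_empty i (hPJ h5)
    have hJ1 : J ≠ Set.univ := by
      rintro rfl
      rw [hP.top] at hJ
      have h4 : PJ Q e {i} = ⊤ := by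
        apply hcinj
        show Subgroup.map _ _ = Subgroup.map _ ⊤
        rw [hJ, Subgroup.map_top_of_surjective _ (MulAut.conj g).surjective]
      have h5 : PJ Q e {i} = PJ Q e Set.univ := by
        apply le_antisymm _ (h4 ▸ le_top)
        exact sup_le_sup_left (Subgroup.closure_mono (Set.image_mono (Set.subset_univ _))) _
      have h6 : (1 - i) ∈ ({i} : Set (Fin 2)) := by rw [hPJ h5]; trivial
      rw [Set.mem_singleton_iff] at h6
      exact sub_ne i h6
    have h4 : ∃ j, J = {j} := by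
      obtain ⟨j, hj⟩ := Set.nonempty_iff_ne_empty.2 hJ0
      refine ⟨j, ?_⟩
      ext k
      rw [Set.mem_singleton_iff]
      constructor
      · intro hk
        by_contra hne
        apply hJ1
        ext l
        refine ⟨fun _ => trivial, fun _ => ?_⟩
        rcases fin_two hne l with rfl | rfl
        · exact hk
        · exact hj
      · rintro rfl
        exact hj
    obtain ⟨j, rfl⟩ := h4
    exact ⟨j, hJ⟩
  choose σ hσ using h3
  refine ⟨g, σ, ?_, hσ⟩
  intro i j hij
  have h4 : PJ Q e {i} = PJ Q e {j} := hcinj (by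
    show Subgroup.map _ _ = Subgroup.map _ _
    rw [hσ, hσ, hij])
  exact Set.singleton_injective (hPJ h4)

/-- **Type `B₂` without exchange of the parabolic subgroups.** -/
theorem dData_of_noSwap [Finite K] (hp : p.Prime) (hp2 : p ≠ 2)
    (hK : HasSplitT p (CoxeterMatrix.B 2) K) (h : NoSwap p K) : DData K := by
  obtain ⟨P, U, e, S, hN, cs, hcs⟩ := hK
  have : Fact p.Prime := ⟨hp⟩
  obtain ⟨U', R, hR, hs⟩ := h
  obtain ⟨g, σ, hσi, hσ⟩ := ident hR S e
  have h1 : {i : Fin 2 | Cfsg.Agent.H694.cB 2 i = 0} = {1} := by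
    ext i
    show cB 2 i = 0 ↔ i = 1
    revert i
    decide
  refine dData_of_subgroup (normalizer_PJ e {i | cB 2 i = 0}) ?_ ?_
  · rw [h1]
    intro α
    obtain ⟨τ, -, h⟩ := exists_type_perm e cs hcs S α
    obtain ⟨t, ht⟩ := h {1}
    rw [Set.image_singleton] at ht
    by_cases hτ : τ 1 = 1
    · rw [hτ] at ht
      exact ⟨t, ht⟩
    exfalso
    have hτ0 : τ 1 = 0 := by
      revert hτ
      generalize τ 1 = x
      revert x
      decide
    rw [hτ0] at ht
    -- `PJ {1} ↦ PJ {0}` up to conjugation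
    have hback : ∀ i, PJ P e {i} = (R {σ i}).map (MulAut.conj g⁻¹).toMonoidHom := by
      intro i
      rw [← hσ, map_conj_conj, inv_mul_cancel, map_conj_one]
    have h2 : (R {σ 1}).map α.toMonoidHom =
        (R {σ 0}).map (MulAut.conj (α g * (t * g⁻¹))).toMonoidHom := by
      have h3 : R {σ 1} = (PJ P e {1}).map (MulAut.conj g).toMonoidHom := (hσ 1).symm
      rw [h3, map_conj_map, ht, map_conj_conj]
      have h4 := hback 0
      conv_lhs => rw [h4]
      rw [map_conj_conj]
      congr 3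
      group
    have h01 : σ 0 ≠ σ 1 := fun h => absurd (hσi h) (by decide)
    have hcase : (σ 1 = 0 ∧ σ 0 = 1) ∨ (σ 1 = 1 ∧ σ 0 = 0) := by
      revert h01
      generalize σ 0 = x
      generalize σ 1 = y
      revert x y
      decide
    rcases hcase with ⟨h5, h6⟩ | ⟨h5, h6⟩
    · rw [h5, h6] at h2
      exact no_map hR hs α _ h2
    · rw [h5, h6] at h2
      generalize α g * (t * g⁻¹) = x at h2
      have h3 : ((R {1}).map α.toMonoidHom).map α.symm.toMonoidHom =
          ((R {0}).map (MulAut.conj x).toMonoidHom).map α.symm.toMonoidHom := by rw [h2]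
      rw [Cfsg.Agent.H694.map_map_symm α (R {1}), map_conj_map] at h3
      refine no_map hR hs α.symm (α.symm x)⁻¹ ?_
      rw [h3, map_conj_conj, inv_mul_cancel, map_conj_one]
  · have : Finite (Tits.OfBN.WP P) := inferInstance
    obtain ⟨h2, h3⟩ := parity_B (le_refl 2) cs
    have h4 := index_mod e cs hcs (hp.odd_of_ne_two hp2) S {i | cB 2 i = 0}
    rw [card_double e cs hcs, Nat.odd_iff, Nat.add_mod, h4, h2, h3]

theorem dData_of_rgd [Finite K] [IsSimpleGroup K] (hp : p.Prime) (hp2 : p ≠ 2)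
    (hK : HasRGDT p (CoxeterMatrix.B 2) K) (h : NoSwap p K) : DData K :=
  dData_of_noSwap hp hp2 (hK.hasSplitT hp (by norm_num)) h

/-- **`PSp_4(q)`, `q` odd** -/
theorem dData_PSp4 {F : Type u} [Field F] [Finite F] (h2 : (2 : F) ≠ 0) [IsSimpleGroup (PSp 2 F)] :
    DData (PSp 2 F) := by
  obtain ⟨p, hp⟩ := CharP.exists F
  have hp1 : p.Prime := CharP.char_is_prime F p
  have : Fact p.Prime := ⟨hp1⟩
  have hp2 : p ≠ 2 := by
    rintro rfl
    exact h2 (by exact_mod_cast CharP.cast_eq_zero F 2)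
  have : Finite (PSp 2 F) := inferInstance
  exact dData_of_rgd hp1 hp2 (Omega.ML.Ex.Typ.typ_PSp (by norm_num)) (H288.BnWitt.noSwap_PSp h2)

/-- **`PSU_4(q)`, `q` odd** -/
theorem dData_PSU4 {F : Type u} [Field F] [Fintype F] {q : ℕ} (hF : Fintype.card F = q ^ 2)
    (h2 : (2 : F) ≠ 0) [IsSimpleGroup (PSU 4 F q)] : DData (PSU 4 F q) := by
  obtain ⟨p, hp⟩ := CharP.exists F
  have hp1 : p.Prime := CharP.char_is_prime F p
  have : Fact p.Prime := ⟨hp1⟩
  have hp2 : p ≠ 2 := by
    rintro rfl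
    exact h2 (by exact_mod_cast CharP.cast_eq_zero F 2)
  obtain ⟨m, hm, h⟩ := Omega.ML.Ex.Typ.typ_PSU hF (N := 4) (by norm_num) (p := p)
  have hm2 : m = 2 := by omega
  subst hm2
  exact dData_of_rgd hp1 hp2 h (H288.BnWitt.noSwap_PSU4 hF)

/-- **`PSU_5(q)`, `q` odd** -/
theorem dData_PSU5 {F : Type u} [Field F] [Fintype F] {q : ℕ} (hF : Fintype.card F = q ^ 2)
    (h2 : (2 : F) ≠ 0) [IsSimpleGroup (PSU 5 F q)] : DData (PSU 5 F q) := by
  obtain ⟨p, hp⟩ := CharP.exists F
  have hp1 : p.Prime := CharP.char_is_prime F p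
  have : Fact p.Prime := ⟨hp1⟩
  have hp2 : p ≠ 2 := by
    rintro rfl
    exact h2 (by exact_mod_cast CharP.cast_eq_zero F 2)
  obtain ⟨m, hm, h⟩ := Omega.ML.Ex.Typ.typ_PSU hF (N := 5) (by norm_num) (p := p)
  have hm2 : m = 2 := by omega
  subst hm2
  exact dData_of_rgd hp1 hp2 h (H288.BnWitt.noSwap_PSU5 hF)

end Cfsg.Agent.H612.RowB2
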