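import Cfsg.Agent.H715.LieExc
import Cfsg.Agent.H324.Hall.FamOrth
import Cfsg.Agent.H324.Hall.FamSU
import Cfsg.Agent.H324.Hall.FamSp
import Cfsg.Agent.H119.SUBound
import Cfsg.Agent.S2392

/-!
# Degrees of the simple groups of Lie type of odd characteristic

`bigDeg_lie` : a simple group of Lie type of odd characteristic other than `PSL(2, q)` and of order different from
`25920` and `6048` has no nontrivial complex representation of degree `≤ 7`.
`deg_ge` : hence its nonprincipal irreducible characters have degree at least `8`.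
-/

set_option autoImplicit false
set_option linter.unusedSectionVars false
set_option maxRecDepth 100000

open Module Cfsg

namespace Cfsg.Agent.H612.DegEight

open Cfsg.Agent.LieClassical.OrthCore Cfsg.Agent.LieClassical.OrthTrans
  Cfsg.Agent.LieClassical.OrthFinite Cfsg.Agent.LieClassical.OrthForms
  Cfsg.Agent.H122.OrthWt Cfsg.Agent.H122.OrthRep Cfsg.Agent.H122.OrthStep Cfsg.Agent.H122.OrthIso Cfsg.Agent.H122
open Cfsg.Agent.OrdDiv Cfsg.Agent.H324.Hall Cfsg.Agent.H715.HeisDeg Cfsg.Lie Cfsg.Agent.H715.Lie Cfsg.Agent.H715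

universe u v

variable {T : Type u} [Group T] [Finite T] [IsSimpleGroup T]

theorem exists_quot {Γ : Type v} [Group Γ] (e : T ≃* Γ ⧸ Subgroup.center Γ) :
    ∃ φ : Γ →* T, Function.Surjective φ ∧ (∃ g, φ g ≠ 1) ∧ φ.ker ≤ Subgroup.center Γ := by
  have hs : Function.Surjective (e.symm.toMonoidHom.comp (QuotientGroup.mk' (Subgroup.center Γ))) :=
    e.symm.surjective.comp (QuotientGroup.mk'_surjective _)
  refine ⟨_, hs, ?_, fun g hg => ?_⟩
  · obtain ⟨t, ht⟩ := exists_ne (1 : T)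
    obtain ⟨g, hg⟩ := hs t
    exact ⟨g, by rw [hg]; exact ht⟩
  · have h2 : e.symm (QuotientGroup.mk g) = 1 := hg
    rw [EmbeddingLike.map_eq_one_iff] at h2
    exact (QuotientGroup.eq_one_iff g).1 h2

theorem ringChar_ne {F : Type*} [Field F] [Fintype F] {p : ℕ} (hp : p.Prime) [CharP F p] :
    ringChar ℂ ≠ ringChar F := by
  rw [ringChar.eq F p, ringChar.eq_zero]
  exact hp.ne_zero.symm

variable {p : ℕ} (hp : p.Prime) (hp2 : p ≠ 2)

include hp hp2

theorem odd_card {F : Type*} [Field F] [Fintype F] [CharP F p] : Odd (Fintype.card F) := by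
  obtain ⟨a, ha, hF⟩ := exists_pow F p
  rw [hF]
  exact Odd.pow (hp.odd_of_ne_two hp2)

theorem three_le {F : Type*} [Field F] [Fintype F] [CharP F p] : 3 ≤ Fintype.card F := by
  have h1 := odd_card hp hp2 (F := F)
  have h2 := Fintype.one_lt_card (α := F)
  obtain ⟨k, hk⟩ := h1
  omega

theorem row_psl {F : Type} [Field F] [Fintype F] [CharP F p] {m : ℕ} (hm : 3 ≤ m)
    (e : T ≃* Matrix.ProjectiveSpecialLinearGroup (Fin m) F) : BigDeg T 7 := by
  obtain ⟨φ, -, -, hφ⟩ := exists_quot (Γ := Matrix.SpecialLinearGroup (Fin m) F) e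
  have h3 := three_le hp hp2 (F := F)
  refine bigDeg_of_ker φ hφ (b := Fintype.card F ^ (m - 1) - 1)
    (fun k ρ hρ => S2392.result rfl m hm (ringChar_ne hp) ρ hρ) ?_
  have h4 : 3 ^ 2 ≤ Fintype.card F ^ (m - 1) :=
    (Nat.pow_le_pow_right (by norm_num) (by omega)).trans (Nat.pow_le_pow_left h3 _)
  omega

theorem row_psp {F : Type} [Field F] [Fintype F] [CharP F p] {m : ℕ} (hm : 2 ≤ m)
    (h4 : m = 2 → Fintype.card F ≠ 3) (e : T ≃* PSp m F) : BigDeg T 7 := by
  obtain ⟨φ, -, -, hφ⟩ := exists_quot (Γ := Matrix.symplecticGroup (Fin m) F) e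
  have h3 := three_le hp hp2 (F := F)
  have hodd := odd_card hp hp2 (F := F)
  refine bigDeg_of_ker φ hφ (b := Fintype.card F ^ (m - 1) * (Fintype.card F - 1) / 2)
    (fun k ρ hρ => S2393.result rfl hodd m hm (ringChar_ne hp) ρ hρ) ?_
  rw [Nat.lt_div_iff_mul_lt (by norm_num)]
  rcases hm.eq_or_lt with rfl | hm
  · have h5 : 5 ≤ Fintype.card F := by
      have := h4 rfl
      obtain ⟨k, hk⟩ := hodd
      omega
    have h6 : 5 * 4 ≤ Fintype.card F ^ (2 - 1) * (Fintype.card F - 1) := by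
      rw [show 2 - 1 = 1 from rfl, pow_one]
      exact Nat.mul_le_mul h5 (by omega)
    omega
  · have h5 : 3 ^ 2 * 2 ≤ Fintype.card F ^ (m - 1) * (Fintype.card F - 1) :=
      Nat.mul_le_mul ((Nat.pow_le_pow_right (by norm_num) (by omega)).trans (Nat.pow_le_pow_left h3 _)) (by omega)
    omega

theorem row_omega {F : Type} [Field F] [Fintype F] [CharP F p] {ι : Type} [Fintype ι] [DecidableEq ι]
    {Q : QuadraticForm F (ι → F)} (hG : Good Q) (e : T ≃* POmega F ⇑Q) {W : Type} [AddCommGroup W] [Module F W]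
    [Fintype W] {Q0 : QuadraticForm F W} (hiso : IsoQ Q (HQ (HQ Q0))) (hQ0 : Nondeg Q0) (hd : 3 ≤ finrank F W) :
    BigDeg T 7 := by
  have h3 := three_le hp hp2 (F := F)
  have hb : BigDeg (Omega F ⇑Q) 7 := by
    refine bigDeg_omega hG hiso hQ0 hd ?_
    have h4 : Fintype.card W = Fintype.card F ^ finrank F W := Module.card_eq_pow_finrank
    rw [h4]
    have h5 : 3 ^ 3 * 2 ≤ Fintype.card F ^ finrank F W * (Fintype.card F - 1) :=
      Nat.mul_le_mul ((Nat.pow_le_pow_right (by norm_num) hd).trans (Nat.pow_le_pow_left h3 _)) (by omega)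
    omega
  obtain ⟨φ, hφ, -, -⟩ := exists_quot (Γ := Omega F ⇑Q) e
  exact hb.of_surj φ hφ

theorem row_odd {F : Type} [Field F] [Fintype F] [CharP F p] {m : ℕ} (hm : 3 ≤ m)
    (e : T ≃* POmega F (quadFormOdd m F)) : BigDeg T 7 := by
  have h2 : (2 : F) ≠ 0 := by
    intro h
    have h3 : ((2 : ℕ) : F) = 0 := by exact_mod_cast h
    rw [CharP.cast_eq_zero_iff F p] at h3
    exact hp2 ((Nat.prime_dvd_prime_iff_eq hp Nat.prime_two).1 h3)
  obtain ⟨k, rfl⟩ : ∃ k, m = k + 2 := ⟨m - 2, by omega⟩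
  rw [← coe_oddForm] at e
  have hG : Good (oddForm (k + 2) F) := good_of_finite (nondeg_oddForm _ _ h2) (by
    rw [Module.finrank_fintype_fun_eq_card, Fintype.card_sum, Fintype.card_sum, Fintype.card_fin, Fintype.card_unit]
    omega)
  refine row_omega hp hp2 hG e (Q0 := oddForm k F) ((isoQ_odd (k + 1)).trans (isoQ_odd k).hq) (nondeg_oddForm _ _ h2)
    ?_
  rw [Module.finrank_fintype_fun_eq_card, Fintype.card_sum, Fintype.card_sum, Fintype.card_fin, Fintype.card_unit]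
  omega

theorem row_plus {F : Type} [Field F] [Fintype F] [CharP F p] {m : ℕ} (hm : 4 ≤ m)
    (e : T ≃* POmega F (quadFormPlus m F)) : BigDeg T 7 := by
  obtain ⟨k, rfl⟩ : ∃ k, m = k + 2 := ⟨m - 2, by omega⟩
  rw [← coe_plusForm] at e
  have hG : Good (plusForm (k + 2) F) := good_of_finite (nondeg_plusForm _ _) (by
    rw [Module.finrank_fintype_fun_eq_card, Fintype.card_sum, Fintype.card_fin]
    omega)
  refine row_omega hp hp2 hG e (Q0 := plusForm k F) ((isoQ_plus (k + 1)).trans (isoQ_plus k).hq) (nondeg_plusForm _ _)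
    ?_
  rw [Module.finrank_fintype_fun_eq_card, Fintype.card_sum, Fintype.card_fin]
  omega

theorem row_minus {F : Type} [Field F] [Fintype F] [CharP F p] {m : ℕ} (hm : 4 ≤ m) (c d : F)
    (hcd : ∀ z₁ z₂ : F, z₁ ^ 2 + c * z₁ * z₂ + d * z₂ ^ 2 = 0 → z₁ = 0 ∧ z₂ = 0)
    (e : T ≃* POmega F (quadFormMinus (m - 1) F c d)) : BigDeg T 7 := by
  obtain ⟨k, rfl⟩ : ∃ k, m = k + 3 := ⟨m - 3, by omega⟩
  have hk : k + 3 - 1 = k + 2 := by omega
  rw [hk, ← coe_minusForm] at e
  have hG : Good (minusForm (k + 2) F c d) := good_of_finite (nondeg_minusForm _ _ _ _ hcd) (by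
    rw [Module.finrank_fintype_fun_eq_card, Fintype.card_sum, Fintype.card_sum, Fintype.card_fin, Fintype.card_fin]
    omega)
  refine row_omega hp hp2 hG e (Q0 := minusForm k F c d) ((isoQ_minus (k + 1) c d).trans (isoQ_minus k c d).hq)
    (nondeg_minusForm _ _ _ _ hcd) ?_
  rw [Module.finrank_fintype_fun_eq_card, Fintype.card_sum, Fintype.card_sum, Fintype.card_fin, Fintype.card_fin]
  omega

theorem row_psu {F : Type} [Field F] [Fintype F] [CharP F p] {m q : ℕ} (hq : Fintype.card F = q ^ 2) (hm : 3 ≤ m)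
    (h33 : ¬ (m = 3 ∧ q = 3)) (e : T ≃* PSU m F q) : BigDeg T 7 := by
  have hodd := odd_card hp hp2 (F := F)
  rw [hq] at hodd
  have hqo : Odd q := by
    rcases Nat.even_or_odd q with h | h
    · exact absurd hodd (Nat.not_odd_iff_even.2 (h.pow_of_ne_zero two_ne_zero))
    · exact h
  have h1 := Fintype.one_lt_card (α := F)
  have h3 : 3 ≤ q := by
    obtain ⟨k, hk⟩ := hqo
    rcases k with _ | k
    · rw [hq, hk] at h1
      norm_num at h1
    · omega
  have hperf : commutator (SU m F q) = ⊤ := GpUn.perfect_SU hq hm (by omega)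
  obtain ⟨φ, -, hφ, -⟩ := exists_quot (Γ := SU m F q) e
  refine bigDeg_of_irr hperf φ hφ fun k ρ hρ hk => ?_
  have h4 := Cfsg.Agent.H119.SUBound.bound hq hm (by omega) ρ hρ (by simpa using hk)
  rw [Module.finrank_fin_fun] at h4
  refine lt_of_lt_of_le ?_ h4
  obtain ⟨n, rfl⟩ : ∃ n, m = n + 2 := ⟨m - 2, by omega⟩
  have h5 : (q - 1) * q ^ n ≤ Cfsg.Agent.H119.bd q (n + 2) := Nat.le_add_right _ _
  refine lt_of_lt_of_le ?_ h5
  rcases (show 1 ≤ n by omega).eq_or_lt with rfl | hn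
  · have hq3 : q ≠ 3 := fun h => h33 ⟨rfl, h⟩
    have h5 : 5 ≤ q := by
      obtain ⟨k, hk⟩ := hqo
      omega
    have h6 : 4 * 5 ≤ (q - 1) * q ^ 1 := Nat.mul_le_mul (by omega) (by rw [pow_one]; exact h5)
    omega
  · have h6 : 2 * 3 ^ 2 ≤ (q - 1) * q ^ n :=
      Nat.mul_le_mul (by omega) ((Nat.pow_le_pow_right (by norm_num) hn).trans (Nat.pow_le_pow_left h3 _))
    omega

omit hp hp2 in
theorem lt_pow {q n : ℕ} (hq : 3 ≤ q) (hn : 4 ≤ n) : 7 ^ 2 < q ^ n := by
  have h1 : 3 ^ 4 ≤ q ^ n := (Nat.pow_le_pow_right (by norm_num) hn).trans (Nat.pow_le_pow_left hq _)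
  omega

omit hp hp2 in
theorem simple_of {X : Type*} [Group X] (e : T ≃* X) : IsSimpleGroup X :=
  have : Nontrivial X := e.symm.toEquiv.nontrivial
  IsSimpleGroup.isSimpleGroup_of_surjective e.toMonoidHom e.surjective

theorem row_e8 {F : Type} [Field F] [Fintype F] [CharP F p] (e : T ≃* chevE8.group F) : BigDeg T 7 := by
  have hs := simple_of e
  exact BigDeg.congr e (bigDeg_tab Cfsg.Agent.H934.HeisE8.hD Cfsg.Agent.H934.HeisE8.tab Cfsg.Agent.H934.HeisE8.tab_ok
    (lt_pow (three_le hp hp2) (by norm_num)))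

theorem row_e7 {F : Type} [Field F] [Fintype F] [CharP F p] (e : T ≃* chevE7.group F) : BigDeg T 7 := by
  have hs := simple_of e
  exact BigDeg.congr e (bigDeg_tab Cfsg.Agent.H934.HeisE7.hD Cfsg.Agent.H934.HeisE7.tab Cfsg.Agent.H934.HeisE7.tab_ok
    (lt_pow (three_le hp hp2) (by norm_num)))

theorem row_e6 {F : Type} [Field F] [Fintype F] [CharP F p] (e : T ≃* chevE6.group F) : BigDeg T 7 := by
  have hs := simple_of e
  exact BigDeg.congr e (bigDeg_tab Cfsg.Agent.H934.HeisE6.hD Cfsg.Agent.H934.HeisE6.tab Cfsg.Agent.H934.HeisE6.tab_ok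
    (lt_pow (three_le hp hp2) (by norm_num)))

theorem row_f4 {F : Type} [Field F] [Fintype F] [CharP F p] (e : T ≃* chevF4.group F) : BigDeg T 7 := by
  have hs := simple_of e
  exact BigDeg.congr e (bigDeg_tab HeisF4.hD HeisF4.tab HeisF4.tab_ok (lt_pow (three_le hp hp2) (by norm_num)))

theorem row_g2 {F : Type} [Field F] [Fintype F] [CharP F p] (e : T ≃* chevG2.group F) : BigDeg T 7 := by
  obtain ⟨e'⟩ := Cfsg.Agent.H638.G2Iso.equiv (F := F)
  have e2 : T ≃* ↥(Cfsg.Lie.G2 F) := e.trans e'.symm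
  have hs := simple_of e2
  have h3 := three_le hp hp2 (F := F)
  have hodd := odd_card hp hp2 (F := F)
  refine BigDeg.congr e2 (bigDeg_g2 h3 (by rintro h; rw [h] at hodd; exact absurd hodd (by decide)) ?_)
  have h4 : 3 ^ 2 ≤ Fintype.card F ^ 2 := Nat.pow_le_pow_left h3 _
  omega

theorem le_of_sq {K : Type} [Field K] [Fintype K] [CharP K p] {q n : ℕ} (hK : Fintype.card K = q ^ n) : 3 ≤ q := by
  have hodd := odd_card hp hp2 (F := K)
  have h1 := Fintype.one_lt_card (α := K)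
  by_contra h
  have h2 : q = 0 ∨ q = 1 ∨ q = 2 := by omega
  rcases Nat.eq_zero_or_pos n with hn | hn
  · rw [hK, hn, pow_zero] at h1
    omega
  rcases h2 with rfl | rfl | rfl
  · rw [hK, zero_pow (by omega)] at h1
    omega
  · rw [hK, one_pow] at h1
    omega
  · rw [hK] at hodd
    exact absurd hodd (Nat.not_odd_iff_even.2 (even_two.pow_of_ne_zero (by omega)))

theorem row_2e6 {K : Type} [Field K] [Fintype K] [CharP K p] {q : ℕ} (hq : IsPrimePow q)
    (hK : Fintype.card K = q ^ 2) (e : T ≃* twistedE6 K q) : BigDeg T 7 := by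
  have hs := simple_of e
  exact BigDeg.congr e (bigDeg_2E6 hq hK (lt_pow (le_of_sq hp hp2 hK) (by norm_num)))

omit hp hp2 in
theorem nc_of {X : Type*} [Group X] (e : T ≃* X) (h : ∃ a b : T, a * b ≠ b * a) : ∃ a b : X, a * b ≠ b * a := by
  obtain ⟨a, b, hab⟩ := h
  exact ⟨e a, e b, fun h => hab (e.injective (by rw [map_mul, map_mul, h]))⟩

theorem row_3d4 (hT : ∃ a b : T, a * b ≠ b * a) {K : Type} [Field K] [Fintype K] [CharP K p] {q : ℕ}
    (hq : IsPrimePow q) (hK : Fintype.card K = q ^ 3) (e : T ≃* twistedD4 K q) : BigDeg T 7 := by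
  have hs := simple_of e
  have hX := nc_of e hT
  have hfin : Finite ↥(twistedD4 K q) := Finite.of_equiv T e.toEquiv
  have hbd := Cfsg.Agent.S2342.result q hq hK
  have h3 := le_of_sq hp hp2 hK
  refine BigDeg.congr e (bigDeg_of_bound hX hbd ?_)
  have h4 : 3 < q ^ 4 - q ^ 2 + 1 := by
    have h5 : q ^ 4 = q ^ 2 * q ^ 2 := by ring
    have h6 : 9 ≤ q ^ 2 := by nlinarith
    have h7 : q ^ 2 + 72 ≤ q ^ 4 := by rw [h5]; nlinarith
    omega
  calc 7 < 3 * 3 := by norm_num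
    _ ≤ _ := Nat.mul_le_mul h3 h4.le

omit hp hp2 in
theorem row_ree (hT : ∃ a b : T, a * b ≠ b * a) (h : Cfsg.Lie.IsoRee T) : BigDeg T 7 := by
  obtain ⟨K, _, _, m, hm, hK, ⟨e⟩⟩ := h
  have hs := simple_of e
  have hX := nc_of e hT
  have hfin : Finite ↥(twistedG2 K (3 ^ m)) := Finite.of_equiv T e.toEquiv
  have hbd := Cfsg.Agent.S2343.result m hm hK
  refine BigDeg.congr e (bigDeg_of_bound hX hbd ?_)
  have h27 : 27 ≤ 3 ^ (2 * m + 1) := by
    calc 27 = 3 ^ 3 := by norm_num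
      _ ≤ _ := Nat.pow_le_pow_right (by norm_num) (by omega)
  set q := 3 ^ (2 * m + 1) with hq
  have h5 : 27 * q ≤ q ^ 2 := by rw [pow_two]; exact Nat.mul_le_mul_right _ h27
  omega

omit hp hp2 in
theorem card_psp23 {F : Type} [Field F] [Fintype F] (hF : Fintype.card F = 3) (e : T ≃* PSp 2 F) :
    Nat.card T = 25920 := by
  have h := H285.TwoPart.psp_card (F := F) (m := 2) (by norm_num)
  rw [hF] at h
  rw [Nat.card_congr e.toEquiv]
  have h1 : fPSp.den 2 3 = 2 := by decide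
  have h2 : fPSp.num 2 3 = 51840 := by decide
  rw [h1, h2] at h
  omega

omit hp hp2 in
theorem card_psu33 {F : Type} [Field F] [Fintype F] (hF : Fintype.card F = 3 ^ 2) (e : T ≃* PSU 3 F 3) :
    Nat.card T = 6048 := by
  have h := H285.TwoPart.psu_card (F := F) (n := 3) hF (by norm_num)
  rw [Nat.card_congr e.toEquiv]
  have h1 : fPSU.den 3 3 = 4 := by decide
  have h2 : fPSU.num 3 3 = 24192 := by decide
  rw [h1, h2] at h
  omega

/-- **The degrees of the simple groups of Lie type of odd characteristic**, exceptions as isomorphism types. -/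
theorem bigDeg_lie_iso (hT : ∃ a b : T, a * b ≠ b * a) (h : IsLieTypeChar p T)
    (h1 : ¬ ∃ (F : Type) (_ : Field F) (_ : Fintype F), Nonempty (T ≃* Matrix.ProjectiveSpecialLinearGroup (Fin 2) F))
    (h2 : ¬ ∃ (F : Type) (_ : Field F) (_ : Fintype F), Fintype.card F = 3 ∧ Nonempty (T ≃* PSp 2 F))
    (h3 : ¬ ∃ (F : Type) (_ : Field F) (_ : Fintype F), Fintype.card F = 9 ∧ Nonempty (T ≃* PSU 3 F 3)) :
    BigDeg T 7 := by
  rcases h with ⟨F, _, _, _, n, hn, -, ⟨e⟩⟩ | ⟨F, _, _, _, m, hm, -, ⟨e⟩⟩ | ⟨F, _, _, _, n, q, hq, hn, -, ⟨e⟩⟩ |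
    ⟨F, _, _, _, m, hm, -, ⟨e⟩⟩ | ⟨F, _, _, _, m, hm, ⟨e⟩⟩ | ⟨F, _, _, _, m, a, b, hm, hab, ⟨e⟩⟩ |
    ⟨F, _, _, _, h⟩ | ⟨K, _, _, _, q, hq, h⟩ | ⟨h, -⟩ | ⟨h, -⟩ | ⟨-, h⟩
  · rcases hn.eq_or_lt with rfl | hn
    · exact absurd ⟨F, inferInstance, inferInstance, ⟨e⟩⟩ h1
    · exact row_psl hp hp2 hn e
  · exact row_psp hp hp2 hm (fun h4 h5 => by subst h4; exact h2 ⟨F, inferInstance, inferInstance, h5, ⟨e⟩⟩) e
  · exact row_psu hp hp2 hq hn (by
      rintro ⟨rfl, rfl⟩
      exact h3 ⟨F, inferInstance, inferInstance, hq, ⟨e⟩⟩) e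
  · exact row_odd hp hp2 hm e
  · exact row_plus hp hp2 hm e
  · exact row_minus hp hp2 hm a b hab e
  · rcases h with ⟨-, ⟨e⟩⟩ | ⟨⟨e⟩⟩ | ⟨⟨e⟩⟩ | ⟨⟨e⟩⟩ | ⟨⟨e⟩⟩
    · exact row_g2 hp hp2 e
    · exact row_f4 hp hp2 e
    · exact row_e6 hp hp2 e
    · exact row_e7 hp hp2 e
    · exact row_e8 hp hp2 e
  · rcases h with ⟨hK, ⟨e⟩⟩ | ⟨hK, ⟨e⟩⟩
    · exact row_2e6 hp hp2 hq hK e
    · exact row_3d4 hp hp2 hT hq hK e
  · exact absurd h hp2
  · exact absurd h hp2
  · exact row_ree hT h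

/-- **The degrees of the simple groups of Lie type of odd characteristic.** -/
theorem bigDeg_lie (hT : ∃ a b : T, a * b ≠ b * a) (h : IsLieTypeChar p T)
    (h1 : ¬ ∃ (F : Type) (_ : Field F) (_ : Fintype F), Nonempty (T ≃* Matrix.ProjectiveSpecialLinearGroup (Fin 2) F))
    (h2 : Nat.card T ≠ 25920) (h3 : Nat.card T ≠ 6048) : BigDeg T 7 := by
  refine bigDeg_lie_iso hp hp2 hT h h1 ?_ ?_
  · rintro ⟨F, _, _, hF, ⟨e⟩⟩
    exact h2 (card_psp23 hF e)
  · rintro ⟨F, _, _, hF, ⟨e⟩⟩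
    exact h3 (card_psu33 (by rw [hF]; norm_num) e)

omit hp hp2 in
/-- Nonprincipal irreducible characters of even degree have degree greater than `d` when all the nontrivial
representations do. -/
theorem lt_charDegree {X : Type u} [Group X] [Finite X] {d : ℕ} (h : BigDeg X d) (θ : X → ℂ)
    (hθ : IsIrrCharacter X θ) (h1 : charDegree θ ≠ 1) : d < charDegree θ := by
  obtain ⟨n, ρ, hρ, hθ'⟩ := id hθ
  have hn : charDegree θ = n := by
    unfold charDegree
    rw [← hθ', Representation.char_one, Module.finrank_fin_fun]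
    simp
  rw [hn] at h1 ⊢
  obtain ⟨f, hf⟩ := exists_gl ρ
  have hf1 : f ≠ 1 := by
    intro hf1
    apply h1
    have h2 : ∀ x, θ x = n := by
      intro x
      have h3 : ρ x = 1 := (hf x).1 (by rw [hf1]; rfl)
      rw [← hθ']
      unfold Representation.character
      rw [h3]
      simp
    let _ : Fintype X := Fintype.ofFinite X
    have h3 := Cfsg.Agent.Characters.Core.classInner_irr_self hθ
    unfold classInner at h3
    have h4 : ((n : ℂ) * n) = 1 := by
      have h5 : (Nat.card X : ℂ) ≠ 0 := by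
        exact_mod_cast Nat.card_pos.ne'
      rw [← h3]
      simp only [h2, Complex.conj_natCast, Finset.sum_const, Finset.card_univ, ← Nat.card_eq_fintype_card,
        nsmul_eq_mul]
      field_simp
    have h6 : n * n = 1 := by exact_mod_cast h4
    exact Nat.eq_one_of_mul_eq_one_left h6
  have h7 := h _ f hf1
  rwa [Module.finrank_fin_fun] at h7

/-- **(D)** A simple group of Lie type of odd characteristic, other than `PSL(2, q)` and not of order `25920` or
`6048`: the irreducible characters of even degree have degree at least `8`. -/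
theorem deg8_of_lie_odd (hT : ∃ a b : T, a * b ≠ b * a) (h : IsLieTypeChar p T)
    (h1 : ¬ ∃ (F : Type) (_ : Field F) (_ : Fintype F), Nonempty (T ≃* Matrix.ProjectiveSpecialLinearGroup (Fin 2) F))
    (h2 : Nat.card T ≠ 25920) (h3 : Nat.card T ≠ 6048) (θ : T → ℂ) (hθ : IsIrrCharacter T θ)
    (he : Even (charDegree θ)) : 8 ≤ charDegree θ :=
  lt_charDegree (bigDeg_lie hp hp2 hT h h1 h2 h3) θ hθ (fun h => by rw [h] at he; exact absurd he (by decide))

/-- **(E)** The same with the exceptions given as isomorphism types. -/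
theorem deg8_of_lie_odd_iso (hT : ∃ a b : T, a * b ≠ b * a) (h : IsLieTypeChar p T)
    (h1 : ¬ ∃ (F : Type) (_ : Field F) (_ : Fintype F), Nonempty (T ≃* Matrix.ProjectiveSpecialLinearGroup (Fin 2) F))
    (h2 : ¬ ∃ (F : Type) (_ : Field F) (_ : Fintype F), Fintype.card F = 3 ∧ Nonempty (T ≃* PSp 2 F))
    (h3 : ¬ ∃ (F : Type) (_ : Field F) (_ : Fintype F), Fintype.card F = 9 ∧ Nonempty (T ≃* PSU 3 F 3))
    (θ : T → ℂ) (hθ : IsIrrCharacter T θ) (he : Even (charDegree θ)) : 8 ≤ charDegree θ :=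
  lt_charDegree (bigDeg_lie_iso hp hp2 hT h h1 h2 h3) θ hθ (fun h => by rw [h] at he; exact absurd he (by decide))

end Cfsg.Agent.H612.DegEight
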