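import Cfsg.Agent.H612.Heredity
import Cfsg.Agent.S0157
import Cfsg.Agent.Characters.Linear
import Cfsg.Agent.Blocks.Elementary

/-!
# An inverted abelian normal subgroup of odd order

`exists_inverted`: if `N` is an abelian normal subgroup of odd order with a complement `P` and some
element inverts `N ≠ 1`, then there is a fixed irreducible character of even degree.
-/

set_option autoImplicit false

namespace Cfsg.Agent.H612.Inverted

open Cfsg Cfsg.Agent.Characters Cfsg.Agent.Blocks Cfsg.Agent.H686.CharKit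
open Cfsg.Agent.H610.Twist Cfsg.Agent.H612.Base Cfsg.Agent.H612.Heredity
open scoped ComplexConjugate

universe u

variable {G : Type u} [Group G] {k : ℕ}

/-- A character real on a normal subgroup of odd order and nontrivial on it has even degree. -/
theorem even_of_real [Finite G] (N : Subgroup G) [N.Normal] (hodd : Odd (Nat.card N))
    (χ : IrrCharacter G) (hreal : ∀ n ∈ N, (χ : G → ℂ) n⁻¹ = (χ : G → ℂ) n)
    (hne : ∃ n ∈ N, (χ : G → ℂ) n ≠ (χ : G → ℂ) 1) : Even (charDegree (χ : G → ℂ)) := by
  classical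
  have := Fintype.ofFinite G
  have := Fintype.ofFinite N
  obtain ⟨M, hM⟩ := ExistsModular.exists_isPModular Nat.prime_two
  have hprime : M.IsPrime := Local.isPrime_of_isPModular hM
  have hchar : CharP (Local.ResField M) 2 := Local.charP_resField hM
  have h1 := sum_coset_eq_zero N χ hne 1
  simp only [mul_one] at h1
  have hR : ∀ n : N, MemLocalRing M ((χ : G → ℂ) n) := fun n =>
    Elementary.memLocalRing_char χ.2 _
  have h2 : Local.redC M (∑ n : N, (χ : G → ℂ) n) = 0 := by rw [h1, Local.redC_zero]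
  rw [Local.redC_sum fun n _ => hR n,
    H611.EvenFixed.sum_eq_sum_fixed Finset.univ (fun n : N => n⁻¹) (fun n _ => inv_inv n)
      (fun n _ => Finset.mem_univ _) _ (fun n _ => by
        have := hreal n n.2
        simp only [Subgroup.coe_inv, this])] at h2
  have h3 : Finset.univ.filter (fun n : N => n⁻¹ = n) = {1} := by
    ext n
    rw [Finset.mem_filter, Finset.mem_singleton]
    constructor
    · rintro ⟨-, h3⟩
      have h4 : n ^ 2 = 1 := by
        rw [pow_two]
        nth_rewrite 1 [← h3]
        exact inv_mul_cancel n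
      have h5 : orderOf n ∣ 2 := orderOf_dvd_of_pow_eq_one h4
      have h6 : Odd (orderOf n) := Odd.of_dvd_nat hodd (orderOf_dvd_natCard n)
      rcases (Nat.dvd_prime Nat.prime_two).1 h5 with h7 | h7
      · exact orderOf_eq_one_iff.1 h7
      · rw [h7] at h6
        exact absurd h6 (by decide)
    · rintro rfl
      exact ⟨Finset.mem_univ _, inv_one⟩
  rw [h3, Finset.sum_singleton, Subgroup.coe_one, ← charDegree_irr, Local.redC_natCast,
    CharP.cast_eq_zero_iff (Local.ResField M) 2] at h2
  exact even_iff_two_dvd.2 h2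

theorem exists_inverted [Finite G] (hk : KM G k) (N P : Subgroup G) [N.Normal]
    (hcomm : ∀ a ∈ N, ∀ b ∈ N, a * b = b * a) (hodd : Odd (Nat.card N)) (hN : N ≠ ⊥)
    (hNP : N ⊓ P = ⊥) (hNP' : N ⊔ P = ⊤) (z : G) (hz : ∀ n ∈ N, z * n * z⁻¹ = n⁻¹) :
    ∃ χ : IrrCharacter G, Fx k (χ : G → ℂ) ∧ Even (charDegree (χ : G → ℂ)) := by
  classical
  have := Fintype.ofFinite G
  have := Fintype.ofFinite N
  have hirr := Core.finite_irr (G := G)
  have := Fintype.ofFinite (IrrCharacter G)
  -- a nontrivial linear character of `N`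
  let _ : CommGroup N := { (inferInstance : Group N) with
    mul_comm := fun a b => Subtype.ext (hcomm a a.2 b b.2) }
  obtain ⟨n₀, hn₀⟩ : ∃ n : N, n ≠ 1 := by
    have : Nontrivial N := (Subgroup.nontrivial_iff_ne_bot N).2 hN
    exact exists_ne 1
  obtain ⟨lam, hlam⟩ := CommGroup.exists_apply_ne_one_of_hasEnoughRootsOfUnity N ℂ hn₀
  set l : N → ℂ := fun n => (lam n : ℂ) with hl
  have hlirr : IsIrrCharacter N l := Characters.Linear.isIrrCharacter_hom lam
  have hl1 : l 1 = 1 := by simp [hl]
  have hlne : l ≠ 1 := by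
    intro h1
    apply hlam
    have := congrFun h1 n₀
    simp only [hl, Pi.one_apply] at this
    exact Units.ext this
  -- the permutation character
  set π : G → ℂ := fun g : G => (Nat.card (MulAction.fixedBy (G ⧸ P) g) : ℂ) with hπ
  have hπc : IsCharacter G π := Cfsg.Agent.S0157.isCharacter_fixedBy (G ⧸ P)
  have hle : ∀ (g : G) (m : ℕ), MulAction.fixedBy (G ⧸ P) g ⊆ MulAction.fixedBy (G ⧸ P) (g ^ m) := by
    intro g m x hx
    induction m with
    | zero => rw [pow_zero, MulAction.mem_fixedBy, one_smul]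
    | succ m ih =>
      rw [MulAction.mem_fixedBy] at ih hx ⊢
      rw [pow_succ, mul_smul, hx, ih]
  have hπk : Fx k π := by
    intro g
    have h1 : MulAction.fixedBy (G ⧸ P) (g ^ k) = MulAction.fixedBy (G ⧸ P) g := by
      apply Set.Subset.antisymm
      · have := hle (g ^ k) k
        rwa [hk.sq] at this
      · exact hle g k
    simp only [hπ, h1]
  have hcompl : N.IsComplement' P := by
    apply Subgroup.isComplement'_of_disjoint_and_mul_eq_univ
    · rw [disjoint_iff, hNP]
    · rw [← Subgroup.normal_mul, hNP', Subgroup.coe_top]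
  have hindex : P.index = Nat.card N := hcompl.index_eq_card
  have hπ1 : π 1 = (Nat.card N : ℂ) := by
    rw [← hindex]
    simp only [hπ]
    congr 1
    refine Nat.card_congr ⟨fun x => x.1, fun x => ⟨x, ?_⟩, ?_, ?_⟩
    · rw [MulAction.mem_fixedBy, one_smul]
    · intro x
      rfl
    · intro x
      rfl
  have hπ0 : ∀ n : N, n ≠ 1 → π n = 0 := by
    intro n hn
    simp only [hπ]
    rw [Nat.cast_eq_zero, Nat.card_eq_zero]
    left
    rw [isEmpty_subtype]
    intro x hx
    obtain ⟨g, rfl⟩ := QuotientGroup.mk_surjective x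
    rw [MulAction.mem_fixedBy, MulAction.Quotient.smul_mk, QuotientGroup.eq, smul_eq_mul] at hx
    have h1 : g⁻¹ * (n : G) * g ∈ N := by
      have := (inferInstance : N.Normal).conj_mem n n.2 g⁻¹
      rwa [inv_inv] at this
    have h2 : g⁻¹ * (n : G) * g ∈ P := by
      have h3 := P.inv_mem hx
      have h4 : (((n : G) * g)⁻¹ * g)⁻¹ = g⁻¹ * (n : G) * g := by group
      rwa [h4] at h3
    have h3 : g⁻¹ * (n : G) * g ∈ N ⊓ P := ⟨h1, h2⟩
    rw [hNP, Subgroup.mem_bot] at h3
    apply hn
    apply Subtype.ext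
    have h4 : (n : G) = g * (g⁻¹ * (n : G) * g) * g⁻¹ := by group
    rw [h4, h3]
    simp
  have hN0 : (Nat.card N : ℂ) ≠ 0 := Core.card_ne_zero_complex
  have hin : classInner (fun n : N => π n) l = 1 := by
    rw [Core.classInner_def, Finset.sum_eq_single (1 : N)]
    · rw [Subgroup.coe_one, hπ1, hl1, map_one, mul_one, inv_mul_cancel₀ hN0]
    · intro n _ hn
      rw [hπ0 n hn, zero_mul]
    · intro h
      exact absurd (Finset.mem_univ _) h
  have hc : ∀ χ : IrrCharacter G, IsCharacter N (fun n : N => (χ : G → ℂ) n) := fun χ =>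
    Clifford.isCharacter_restrict N (Core.isIrr_isCharacter χ.2)
  choose a ha using fun χ : IrrCharacter G => Core.classInner_isNat hπc (Core.isIrr_isCharacter χ.2)
  choose m hm using fun χ : IrrCharacter G => Core.classInner_isNat (hc χ)
    (Core.isIrr_isCharacter hlirr)
  have hsum : ∑ χ : IrrCharacter G, a χ * m χ = 1 := by
    have h1 : π = ∑ χ : IrrCharacter G, classInner π (χ : G → ℂ) • (χ : G → ℂ) :=
      Core.classFunction_eq_sum (Core.isCharacter_isClassFunction hπc)
    have h2 : (fun n : N => π n) =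
        ∑ χ : IrrCharacter G, (a χ : ℂ) • (fun n : N => (χ : G → ℂ) n) := by
      funext n
      have h3 := congrFun h1 (n : G)
      simp only [Finset.sum_apply, Pi.smul_apply, ha] at h3 ⊢
      exact h3
    rw [h2, Core.classInner_sum_left] at hin
    have h3 : ((∑ χ : IrrCharacter G, a χ * m χ : ℕ) : ℂ) = 1 := by
      rw [← hin]
      push_cast
      refine Finset.sum_congr rfl fun χ _ => ?_
      rw [Core.classInner_smul_left, hm]
    exact_mod_cast h3
  obtain ⟨χ, -, hχ⟩ := Finset.exists_ne_zero_of_sum_ne_zero (by rw [hsum]; exact one_ne_zero)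
  -- uniqueness
  have huniq : ∀ χ' : IrrCharacter G, a χ' * m χ' ≠ 0 → χ' = χ := by
    intro χ' hχ'
    by_contra hne
    have h1 : ∑ χ'' ∈ ({χ, χ'} : Finset (IrrCharacter G)), a χ'' * m χ'' ≤
        ∑ χ'' : IrrCharacter G, a χ'' * m χ'' :=
      Finset.sum_le_sum_of_subset (Finset.subset_univ _)
    rw [Finset.sum_pair (Ne.symm hne), hsum] at h1
    have h2 := Nat.pos_of_ne_zero hχ
    have h3 := Nat.pos_of_ne_zero hχ'
    omega
  have hreal : ∀ n ∈ N, (χ : G → ℂ) n⁻¹ = (χ : G → ℂ) n := by
    intro n hn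
    rw [← hz n hn]
    exact Core.isIrr_isClassFunction χ.2 n z
  have hfix : pw hk.coprime χ = χ := by
    apply huniq
    have h1 : a (pw hk.coprime χ) = a χ := by
      have h2 := classInner_pw hk hπk χ
      rw [ha, ha] at h2
      exact_mod_cast h2
    have h2 : m (pw hk.coprime χ) = m χ := by
      have h3 : (fun n : N => (pw hk.coprime χ : G → ℂ) n) = fun n : N => (χ : G → ℂ) n := by
        funext n
        rw [pw_apply, hk.odd, hreal n n.2]
        rw [Subgroup.orderOf_coe]
        exact Odd.of_dvd_nat hodd (orderOf_dvd_natCard n)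
      have h4 := hm (pw hk.coprime χ)
      rw [h3, hm] at h4
      exact_mod_cast h4.symm
    rw [h1, h2]
    exact hχ
  refine ⟨χ, (pw_eq_iff hk χ).1 hfix, even_of_real N hodd χ hreal ?_⟩
  by_contra hcon
  push Not at hcon
  have h1 : (fun n : N => (χ : G → ℂ) n) = (χ : G → ℂ) 1 • (1 : N → ℂ) := by
    funext n
    rw [hcon n n.2]
    simp
  have h2 := hm χ
  rw [h1, Core.classInner_smul_left, Core.classInner_irr_ne Core.isIrr_one hlirr (Ne.symm hlne),
    mul_zero] at h2
  have h3 : m χ = 0 := by exact_mod_cast h2.symm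
  exact hχ (by rw [h3, mul_zero])

end Cfsg.Agent.H612.Inverted
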