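import Cfsg.Agent.H612.Even
import Cfsg.Agent.H612.MinNormal
import Mathlib.GroupTheory.DoubleCoset

/-!
# Criterion (D) for a self-normalizing subgroup

`of_selfNorm`: `H ≤ S` self-normalizing, its class invariant under all automorphisms, and
`|S : H| + |H \ S / H|` odd imply `EvenOver S`.
-/

set_option autoImplicit false

namespace Cfsg.Agent.H612.SelfNorm

open Cfsg Cfsg.Agent.H612.Even Cfsg.Agent.H612.MinNormal

universe u

theorem cj_mul {G : Type*} [Group G] (g h : G) (H : Subgroup G) : cj (g * h) H = cj g (cj h H) := by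
  ext x
  rw [mem_cj, mem_cj, mem_cj]
  have : (g * h)⁻¹ * x * (g * h) = h⁻¹ * (g⁻¹ * x * g) * h := by group
  rw [this]

theorem cj_one {G : Type*} [Group G] (H : Subgroup G) : cj 1 H = H := by
  ext x
  rw [mem_cj]
  simp

theorem cj_eq_iff {G : Type*} [Group G] {H : Subgroup G}
    (hN : Subgroup.normalizer (H : Set G) = H) (g g' : G) : cj g H = cj g' H ↔ g⁻¹ * g' ∈ H := by
  have h1 : g⁻¹ * g' ∈ H ↔ cj (g⁻¹ * g') H = H := by
    rw [← mem_normalizer_iff_cj, hN]
  rw [h1, cj_mul]
  constructor
  · intro h
    rw [← h, ← cj_mul, inv_mul_cancel, cj_one]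
  · intro h
    rw [← h, ← cj_mul g g⁻¹, mul_inv_cancel, cj_one, h]

theorem of_selfNorm (S : Type u) [Group S] [Finite S] (H : Subgroup S)
    (hN : Subgroup.normalizer (H : Set S) = H)
    (hα : ∀ α : S ≃* S, ∃ g : S, H.map α.toMonoidHom = cj g H)
    (hodd : Odd (H.index + Nat.card (DoubleCoset.Quotient (H : Set S) (H : Set S)))) :
    EvenOver S := by
  classical
  set 𝒳 : Set (Subgroup S) := {K | ∃ g : S, K = cj g H} with h𝒳
  have hself : ∀ g : S, cj g H ∈ 𝒳 := fun g => ⟨g, rfl⟩
  refine of_subgroups S 𝒳 ?_ ?_
  · rintro α _ ⟨g, rfl⟩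
    obtain ⟨t, ht⟩ := hα α
    refine ⟨α g * t, ?_⟩
    rw [cj_mul, ← ht]
    ext x
    constructor
    · rintro ⟨y, hy, rfl⟩
      rw [SetLike.mem_coe, mem_cj] at hy
      rw [mem_cj]
      exact ⟨_, hy, by simp⟩
    · intro hx
      rw [mem_cj] at hx
      obtain ⟨y, hy, hyx⟩ := hx
      refine ⟨g * y * g⁻¹, ?_, ?_⟩
      · rw [SetLike.mem_coe, mem_cj]
        have : g⁻¹ * (g * y * g⁻¹) * g = y := by group
        rw [this]
        exact hy
      · have h1 : α y = (α g)⁻¹ * x * α g := hyx
        show α (g * y * g⁻¹) = x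
        rw [map_mul, map_mul, map_inv, h1]
        group
  · have h1 : Nat.card 𝒳 = H.index := by
      refine Nat.card_congr (Equiv.symm (Equiv.ofBijective
        (Quotient.lift (s := QuotientGroup.leftRel H) (fun g => (⟨cj g H, hself g⟩ : 𝒳)) ?_) ?_))
      · intro a b hab
        exact Subtype.ext ((cj_eq_iff hN a b).2 (QuotientGroup.leftRel_apply.1 hab))
      · constructor
        · intro x y hxy
          induction x using Quotient.inductionOn with
          | _ x =>
          induction y using Quotient.inductionOn with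
          | _ y =>
          apply Quotient.sound
          exact QuotientGroup.leftRel_apply.2 ((cj_eq_iff hN x y).1 (congrArg Subtype.val hxy))
        · rintro ⟨_, g, rfl⟩
          exact ⟨Quotient.mk _ g, rfl⟩
    have h2 : Nat.card (Quotient (pairRel 𝒳)) =
        Nat.card (DoubleCoset.Quotient (H : Set S) (H : Set S)) := by
      have hH : cj (1 : S) H ∈ 𝒳 := hself 1
      have key : ∀ a b : S, (pairRel 𝒳) (⟨cj 1 H, hH⟩, ⟨cj a H, hself a⟩)
          (⟨cj 1 H, hH⟩, ⟨cj b H, hself b⟩) ↔
          DoubleCoset.setoid (H : Set S) (H : Set S) a b := by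
        intro a b
        rw [DoubleCoset.rel_iff]
        constructor
        · rintro ⟨g, h3, h4⟩
          have h5 : cj g (cj 1 H) = cj 1 H := h3
          have h6 : cj g (cj a H) = cj b H := h4
          rw [cj_one, ← mem_normalizer_iff_cj, hN] at h5
          rw [← cj_mul, cj_eq_iff hN] at h6
          refine ⟨g, h5, (g * a)⁻¹ * b, h6, ?_⟩
          group
        · rintro ⟨x, hx, y, hy, rfl⟩
          have hx' : x ∈ H := hx
          have hy' : y ∈ H := hy
          refine ⟨x, ?_, ?_⟩
          · show cj x (cj 1 H) = cj 1 H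
            rw [cj_one, ← mem_normalizer_iff_cj, hN]
            exact hx'
          · show cj x (cj a H) = cj (x * a * y) H
            rw [← cj_mul, cj_eq_iff hN]
            have : (x * a)⁻¹ * (x * a * y) = y := by group
            rw [this]
            exact hy'
      refine Nat.card_congr (Equiv.symm (Equiv.ofBijective
        (Quotient.lift (s := DoubleCoset.setoid (H : Set S) (H : Set S))
          (fun g => Quotient.mk (pairRel 𝒳) (⟨cj 1 H, hH⟩, ⟨cj g H, hself g⟩)) ?_) ?_))
      · intro a b hab
        exact Quotient.sound ((key a b).2 hab)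
      · constructor
        · intro x y hxy
          induction x using Quotient.inductionOn with
          | _ x =>
          induction y using Quotient.inductionOn with
          | _ y =>
          exact Quotient.sound ((key x y).1 (Quotient.exact hxy))
        · intro z
          induction z using Quotient.inductionOn with
          | _ z =>
          obtain ⟨⟨_, g, rfl⟩, ⟨_, h, rfl⟩⟩ := z
          refine ⟨Quotient.mk _ (g⁻¹ * h), ?_⟩
          apply Quotient.sound
          refine ⟨g, ?_, ?_⟩
          · show cj g (cj 1 H) = cj g H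
            rw [cj_one]
          · show cj g (cj (g⁻¹ * h) H) = cj h H
            rw [← cj_mul]
            congr 1
            group
    rw [h1, h2]
    exact hodd

end Cfsg.Agent.H612.SelfNorm
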