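import Cfsg.Agent.H612.UThreeLin
import Cfsg.Agent.H612.DegEight
import Cfsg.Agent.Classification.RTwo.UThreeThree
import Cfsg.Agent.H694.RChar

/-!
# The orthogonal characters of `PSU₃(3)`

`psu33_ind` : an irreducible character of `PSU₃(3)` of even degree and of indicator one has degree at least `8`.
-/

set_option autoImplicit false

namespace Cfsg.Agent.H612.UThree

open Cfsg Module
open Cfsg.Agent.Classification.RTwo.UThreeThree
open Cfsg.Agent.H612.UThreeLin
open Cfsg.Agent.H705.StrongLin (ind ind_eq)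

/-- The element of order 8. -/
def matS : Matrix (Fin 3) (Fin 3) K9 :=
  !![⟨0, 0⟩, ⟨0, 0⟩, ⟨1, 0⟩; ⟨0, 0⟩, ⟨0, 1⟩, ⟨0, 0⟩; ⟨0, 1⟩, ⟨0, 0⟩, ⟨0, 0⟩]

/-- The element of order 3. -/
def matP : Matrix (Fin 3) (Fin 3) K9 :=
  !![⟨0, 0⟩, ⟨2, 1⟩, ⟨1, 1⟩; ⟨1, 1⟩, ⟨1, 0⟩, ⟨0, 1⟩; ⟨1, 2⟩, ⟨0, 1⟩, ⟨2, 0⟩]

/-- Its image. -/
def matQ : Matrix (Fin 3) (Fin 3) K9 :=
  !![⟨0, 0⟩, ⟨1, 1⟩, ⟨1, 1⟩; ⟨2, 1⟩, ⟨1, 0⟩, ⟨2, 0⟩; ⟨1, 2⟩, ⟨1, 0⟩, ⟨2, 0⟩]

/-- The central element. -/
def matX : Matrix (Fin 3) (Fin 3) K9 :=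
  !![⟨1, 2⟩, ⟨0, 0⟩, ⟨2, 1⟩; ⟨0, 0⟩, ⟨1, 0⟩, ⟨0, 0⟩; ⟨1, 1⟩, ⟨0, 0⟩, ⟨1, 1⟩]

theorem isGood_S : IsGood matS := by decide +kernel
theorem isGood_P : IsGood matP := by decide +kernel
theorem isGood_Q : IsGood matQ := by decide +kernel
theorem isGood_X : IsGood matX := by decide +kernel

theorem e1 : matP * (matP * matP) = 1 := by decide +kernel
theorem e2 : matQ * (matQ * matQ) = 1 := by decide +kernel
theorem e3 : matP * matQ = matX * (matQ * matP) := by decide +kernel
theorem e4 : matX * matP = matP * matX := by decide +kernel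
theorem e5 : matX * matQ = matQ * matX := by decide +kernel
theorem e6 : matX * (matX * matX) = 1 := by decide +kernel
theorem e7 : matX * matS = matS * (matX * matX) := by decide +kernel
theorem e8 : matS * (matS * (matS * (matS * (matS * (matS * (matS * matS)))))) = 1 := by decide +kernel
theorem e9 : matS * (matS * matP) = matQ * (matS * matS) := by decide +kernel
theorem e10 : matS * (matS * matQ) = matP * (matP * (matS * matS)) := by decide +kernel
theorem e11 : matX ≠ 1 := by decide +kernel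

/-- The relations in a group. -/
structure RelG {G : Type*} [Group G] (a b x s : G) : Prop where
  a3 : a * (a * a) = 1
  b3 : b * (b * b) = 1
  ab : a * b = x * (b * a)
  xa : x * a = a * x
  xb : x * b = b * x
  x3 : x * (x * x) = 1
  xs : x * s = s * (x * x)
  s8 : s * (s * (s * (s * (s * (s * (s * s)))))) = 1
  sa : s * (s * a) = b * (s * s)
  sb : s * (s * b) = a * (a * (s * s))
  ne : x ≠ 1

theorem relG_SU : RelG isGood_P.su isGood_Q.su isGood_X.su isGood_S.su where
  a3 := su_ext e1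
  b3 := su_ext e2
  ab := su_ext e3
  xa := su_ext e4
  xb := su_ext e5
  x3 := su_ext e6
  xs := su_ext e7
  s8 := su_ext e8
  sa := su_ext e9
  sb := su_ext e10
  ne := fun h => e11 (congrArg (fun x : Cfsg.SU 3 K9 3 =>
    ((x : Matrix.SpecialLinearGroup (Fin 3) K9) : Matrix (Fin 3) (Fin 3) K9)) h)

theorem RelG.map {G H : Type*} [Group G] [Group H] (e : G ≃* H) {a b x s : G} (h : RelG a b x s) :
    RelG (e a) (e b) (e x) (e s) where
  a3 := by rw [← map_mul, ← map_mul, h.a3, map_one]
  b3 := by rw [← map_mul, ← map_mul, h.b3, map_one]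
  ab := by rw [← map_mul, ← map_mul, ← map_mul, h.ab]
  xa := by rw [← map_mul, ← map_mul, h.xa]
  xb := by rw [← map_mul, ← map_mul, h.xb]
  x3 := by rw [← map_mul, ← map_mul, h.x3, map_one]
  xs := by rw [← map_mul, ← map_mul, ← map_mul, h.xs]
  s8 := by simp only [← map_mul]; rw [h.s8, map_one]
  sa := by simp only [← map_mul]; rw [h.sa]
  sb := by simp only [← map_mul]; rw [h.sb]
  ne := fun h1 => h.ne (e.injective (by rw [h1, map_one]))

theorem RelG.rel {G V : Type*} [Group G] [AddCommGroup V] [Module ℂ V] (ρ : Representation ℂ G V)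
    {a b x s : G} (h : RelG a b x s) : Rel (ρ a) (ρ b) (ρ x) (ρ s) := by
  have key : ∀ {g k : G}, g = k → ∀ v, ρ g v = ρ k v := fun h v => by rw [h]
  constructor
  · intro v
    simpa using key h.a3 v
  · intro v
    simpa using key h.b3 v
  · intro v
    simpa using key h.ab v
  · intro v
    simpa using key h.xa v
  · intro v
    simpa using key h.xb v
  · intro v
    simpa using key h.x3 v
  · intro v
    simpa using key h.xs v
  · intro v
    simpa using key h.s8 v
  · intro v
    simpa using key h.sa v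
  · intro v
    simpa using key h.sb v

universe u

theorem no_six {G : Type u} [Group G] [Finite G] [IsSimpleGroup G] (hperf : commutator G = ⊤) {a b x s : G}
    (h : RelG a b x s) {θ : G → ℂ} (hθ : IsIrrCharacter G θ) (h1 : ind θ = 1) : charDegree θ ≠ 6 := by
  intro h6
  let _ : Fintype G := Fintype.ofFinite G
  obtain ⟨n, ρ, hρ, hθ'⟩ := id hθ
  have hn : n = 6 := by
    rw [← h6]
    unfold charDegree
    rw [← hθ', Representation.char_one, Module.finrank_fin_fun]
    simp
  subst hn
  -- the kernel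
  have hx : ∃ v, ρ x v ≠ v := by
    by_contra hcon
    push Not at hcon
    let N : Subgroup G := ρ.asGroupHom.ker
    have hxN : x ∈ N := by
      rw [MonoidHom.mem_ker]
      apply Units.ext
      refine LinearMap.ext fun v => ?_
      exact hcon v
    have hN : N = ⊤ := by
      rcases IsSimpleGroup.eq_bot_or_eq_top_of_normal N inferInstance with h2 | h2
      · rw [h2] at hxN
        exact absurd (Subgroup.mem_bot.1 hxN) h.ne
      · exact h2
    have h2 : ∀ g, θ g = 6 := by
      intro g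
      have h3 : g ∈ N := hN ▸ Subgroup.mem_top g
      rw [MonoidHom.mem_ker] at h3
      have h4 : ρ g = 1 := congrArg Units.val h3
      rw [← hθ']
      unfold Representation.character
      rw [h4]
      simp
    have h3 := Cfsg.Agent.Characters.Core.classInner_irr_self hθ
    unfold classInner at h3
    have h4 : ((6 : ℂ) * 6) = 1 := by
      have h5 : (Nat.card G : ℂ) ≠ 0 := by exact_mod_cast Nat.card_pos.ne'
      rw [← h3]
      simp only [h2, Finset.sum_const, Finset.card_univ, ← Nat.card_eq_fintype_card, nsmul_eq_mul, map_ofNat]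
      field_simp
    norm_num at h4
  obtain ⟨v₀, hv₀⟩ := hx
  -- the determinant
  have hdet : LinearMap.det (ρ s) = 1 := by
    let f : G →* ℂ := (LinearMap.det : ((Fin 6 → ℂ) →ₗ[ℂ] (Fin 6 → ℂ)) →* ℂ).comp ρ
    have h2 : s ∈ (MonoidHom.toHomUnits f).ker := by
      have h3 := Abelianization.commutator_subset_ker (MonoidHom.toHomUnits f)
      rw [hperf] at h3
      exact h3 (Subgroup.mem_top _)
    rw [MonoidHom.mem_ker] at h2
    have h3 := congrArg Units.val h2
    exact h3
  -- the form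
  rw [← hθ'] at h1
  have := hρ
  obtain ⟨F, hF, hFs⟩ := Cfsg.Agent.H694.exists_form ρ one_ne_zero h1
  have hFb := Cfsg.Agent.S0158.bijective_of_ne_zero ρ F hF
  have hinv : ∀ (g : G) (v w : Fin 6 → ℂ), F (ρ g v) (ρ g w) = F v w := by
    intro g v w
    exact Cfsg.Agent.S0158.dual_swap ρ F g v w
  refine no_form (h.rel ρ) (by simp) hv₀ hdet F.toLinearMap (fun v w => ?_) (fun v w => hinv s v w)
    (fun v w => hinv x v w) fun v hv => ?_
  · have := hFs v w
    rw [one_mul] at this
    exact this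
  · apply hFb.1
    have h3 : F v = 0 := LinearMap.ext fun w => hv w
    exact h3.trans (map_zero F.toLinearMap).symm

open Cfsg.Agent.H612.DegEight Cfsg.Agent.OrdDiv Cfsg.Agent.H324.Hall Cfsg.Agent.H715.HeisDeg Cfsg.Agent.H715.Lie Cfsg.Agent.H715

/-- Nontrivial representations have dimension at least `6`. -/
theorem bigDeg {T : Type u} [Group T] [Finite T] [IsSimpleGroup T] {F : Type} [Field F] [Fintype F]
    (hF : Fintype.card F = 9) (e : T ≃* PSU 3 F 3) : BigDeg T 5 := by
  have hq : Fintype.card F = 3 ^ 2 := by rw [hF]; norm_num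
  have hperf : commutator (SU 3 F 3) = ⊤ := Cfsg.Agent.GpUn.perfect_SU hq le_rfl (by omega)
  obtain ⟨φ, -, hφ, -⟩ := exists_quot (Γ := SU 3 F 3) e
  refine bigDeg_of_irr hperf φ hφ fun k ρ hρ hk => ?_
  have h4 := Cfsg.Agent.H119.SUBound.bound hq le_rfl (by omega) ρ hρ (by simpa using hk)
  rw [Module.finrank_fin_fun] at h4
  refine lt_of_lt_of_le ?_ h4
  have h5 : (3 - 1) * 3 ^ 1 ≤ Cfsg.Agent.H119.bd 3 (1 + 2) := Nat.le_add_right _ _
  exact lt_of_lt_of_le (by norm_num) h5

/-- **(F)** Orthogonal characters of even degree of `PSU₃(3)` have degree at least `8`. -/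
theorem deg8_of_equiv {T : Type u} [Group T] [Finite T] [IsSimpleGroup T] {F : Type} [Field F] [Fintype F]
    (hF : Fintype.card F = 9) (e : T ≃* PSU 3 F 3) (θ : T → ℂ) (hθ : IsIrrCharacter T θ) (h1 : ind θ = 1)
    (he : Even (charDegree θ)) : 8 ≤ charDegree θ := by
  have h5 : 5 < charDegree θ :=
    lt_charDegree (bigDeg hF e) θ hθ (fun h => by rw [h] at he; exact absurd he (by decide))
  have hcard : Fintype.card F = Fintype.card K9 := by rw [hF, card_k9]
  obtain ⟨e'⟩ : Nonempty (F ≃+* K9) := ⟨FiniteField.ringEquivOfCardEq hcard⟩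
  let E : T ≃* Cfsg.SU 3 K9 3 :=
    e.trans ((psuEquiv hF).trans (Cfsg.Agent.LieClassical.FieldTransfer.suCongr 3 3 e'))
  have hr := relG_SU.map E.symm
  have hnc : ∃ a b : T, a * b ≠ b * a := by
    by_contra hcon
    push Not at hcon
    have h2 := hr.xs
    rw [hcon] at h2
    have h3 := mul_left_cancel h2
    have h4 : E.symm isGood_X.su = 1 := by
      have h6 := hr.x3
      rw [← h3] at h6
      have h7 : E.symm isGood_X.su * E.symm isGood_X.su = 1 := h6
      rw [← h3] at h7
      exact h7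
    exact hr.ne h4
  have hperf : commutator T = ⊤ := by
    rcases IsSimpleGroup.eq_bot_or_eq_top_of_normal (commutator T) inferInstance with h2 | h2
    · exfalso
      obtain ⟨a, b, hab⟩ := hnc
      apply hab
      have h3 : a * b * a⁻¹ * b⁻¹ ∈ commutator T := Subgroup.commutator_mem_commutator (Subgroup.mem_top _) (Subgroup.mem_top _)
      rw [h2, Subgroup.mem_bot] at h3
      rw [mul_inv_eq_one, mul_inv_eq_iff_eq_mul] at h3
      exact h3
    · exact h2
  have h6 := no_six hperf hr hθ h1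
  obtain ⟨k, hk⟩ := he
  omega

theorem psu33_ind {F : Type} [Field F] [Fintype F] (hF : Fintype.card F = 9) :
    ∀ θ : PSU 3 F 3 → ℂ, IsIrrCharacter (PSU 3 F 3) θ → ind θ = 1 → Even (charDegree θ) → 8 ≤ charDegree θ := by
  have : IsSimpleGroup (PSU 3 F 3) := S0283.result (F := F) (q := 3) (by rw [hF]; norm_num) 3 le_rfl (by norm_num)
  intro θ hθ h1 he
  exact deg8_of_equiv hF (MulEquiv.refl _) θ hθ h1 he

end Cfsg.Agent.H612.UThree
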